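import Cfsg.Agent.H849.RIM.DzCount
import Cfsg.Agent.H620.RIM.Nb

/-!
# `p`-regular classes and characters of full defect over a central character, `p ∥ |G|` (helper849, for S4816)

`P` Sylow of order `p`, `C(P) = P × K`, `Z ≤ Z(G)` a `p'`-group, `c : Z →* ℂˣ`, `w = |N(P) : C(P)|`.

* `card_reg_le` : if every character over `c` is nonzero somewhere on the `p`-singular elements (e.g. all degrees over `c` are
  prime to `p`), then `w * #{good p-regular classes of G ⧸ Z} ≤ ∑_{θ ∈ Irr(K | c)} e_θ ^ 2`;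
* `good_of_cent` : `x ∈ G` is good if `|C_{G/Z}(x)| / o(x)` is prime to `gcd(o(x), |Z|)` (orders in `G ⧸ Z`);
* `nb_of_count`  : the criterion for `H665.RIM.NB`.
-/

set_option autoImplicit false
set_option linter.unusedSectionVars false

namespace Cfsg.Agent.H849.RIM

open Cfsg Subgroup Finset
open Cfsg.Agent.Characters.Core
open Cfsg.Agent.SmallSimple.ThetaSetup Cfsg.Agent.SmallSimple.ThetaOrtho Cfsg.Agent.SmallSimple.ThetaCount
open Cfsg.Agent.SmallSimple.TheoremC Cfsg.Agent.SmallSimple.TheoremCCor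
open Cfsg.Agent.SmallSimple.SingularCount
open Cfsg.Agent.H622.Over
open scoped ComplexConjugate

universe u

section reg

variable {G : Type u} [Group G] [Finite G] {p : ℕ} [Fact p.Prime] {P : Sylow p G} {K : Subgroup G}

/-- A character of `G` above a character of `K` over `c` is over `c`. -/
theorem lies_of_over {Z : Subgroup G} (hZ : Z ≤ center G) (hZK : Z ≤ K) {c : Z →* ℂˣ} {χ : IrrCharacter G}
    {θ : K → ℂ} (hθ : IsIrrCharacter K θ) (hl : LiesK Z c K θ) (ho : χ ∈ Over P θ) : Lies Z c (χ : G → ℂ) := by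
  obtain ⟨d, hd⟩ := exists_hom hZ χ.2
  have h1 := liesK_of_over hZ hZK hd hθ ho
  have h2 : d = c := by
    ext z
    have h3 := h1 1 ⟨z, hZK z.2⟩ z (one_mul _).symm
    have h4 := hl 1 ⟨z, hZK z.2⟩ z (one_mul _).symm
    rw [h3] at h4
    exact mul_left_cancel₀ (isIrr_apply_one_ne_zero hθ) h4
  rw [← h2]
  exact hd

/-- **The number of good `p`-regular classes over `c`**, if there is no character of defect zero over `c`. -/
theorem card_reg_le (hK : IsComp p (P : Subgroup G) K) (hP : Nat.card P = p) {Z : Subgroup G} [Z.Normal]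
    (hZ : Z ≤ center G) (hZK : Z ≤ K) {c : Z →* ℂˣ} {w : ℕ}
    (hw : (centralizer ((P : Subgroup G) : Set G)).relIndex (normalizer ((P : Subgroup G) : Set G)) = w)
    (A : Finset (IrrCharacter K)) (hA : ∀ θ : IrrCharacter K, LiesK Z c K (θ : K → ℂ) ↔ θ ∈ A)
    (hno : ∀ χ : IrrCharacter G, Lies Z c (χ : G → ℂ) → χ ∈ nonzeroOn p G)
    {ι : Type*} [Fintype ι] (r : ι → G) (hr : ∀ i, Good Z c (r i))
    (hri : ∀ i j, ConjClasses.mk (r i : G ⧸ Z) = ConjClasses.mk (r j : G ⧸ Z) → i = j)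
    (hrp : ∀ (i : ι) (g : G), ConjClasses.mk (r i : G ⧸ Z) = ConjClasses.mk (g : G ⧸ Z) → ¬ p ∣ orderOf g) :
    w * Fintype.card ι ≤ ∑ θ ∈ A, Nat.card (stabAct hK (θ : K → ℂ)) ^ 2 := by
  classical
  have := Fintype.ofFinite G
  have := finite_irr (G := G)
  have := Fintype.ofFinite (IrrCharacter G)
  have hpp : p.Prime := Fact.out
  -- theorem C for the representatives of the orbits
  let rep : IrrCharacter K → IrrCharacter K := fun θ => (Quotient.mk (setoidK hK) θ).out
  have hrep : ∀ θ : IrrCharacter K, ∃ n ∈ normalizer ((P : Subgroup G) : Set G),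
      tw (rep θ : K → ℂ) n = (θ : K → ℂ) := by
    intro θ
    exact Quotient.exact (Quotient.out_eq (Quotient.mk (setoidK hK) θ))
  have hC : ∀ θ : IrrCharacter K, ∃ (NE X : Finset (IrrCharacter G)),
      (∀ χ : IrrCharacter G, χ ∈ Over P (rep θ : K → ℂ) ↔ χ ∈ NE ∨ χ ∈ X) ∧
      NE.card = Nat.card (stabAct hK (rep θ : K → ℂ)) ∧
      (∀ Θ ∈ X, ∃ (ε : IrrCharacter G → ℤ) (d : ℤ), (d = 1 ∨ d = -1) ∧ ∀ g : G, ¬ p ∣ orderOf g →
        ∑ χ ∈ NE, (ε χ : ℂ) * (χ : G → ℂ) g = d * (Θ : G → ℂ) g) := by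
    intro θ
    set e := Nat.card (stabAct hK (rep θ : K → ℂ)) with he
    have hed : e ∣ p - 1 := by
      have h1 : Nat.card (MulAut P) = p - 1 := by
        have : IsCyclic (P : Subgroup G) := isCyclic_of_prime_card hP
        rw [IsCyclic.card_mulAut, hP, Nat.totient_prime hpp]
      rw [← h1]
      exact card_subgroup_dvd_card _
    obtain ⟨t, ht⟩ := hed
    obtain ⟨NE, X, ε, d, S, hOver, -, hNEc, -, -, hd, -, -, -, -, hreg⟩ := theoremC hK hP (rep θ).2 he.symm ht.symm
    exact ⟨NE, X, hOver, hNEc, fun Θ hΘ => ⟨ε, d, hd, hreg Θ hΘ⟩⟩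
  -- the same sets for conjugate characters
  let Q := Quotient (setoidK hK)
  choose NE₀ X₀ hO₀ hN₀ hX₀ using hC
  let NE : IrrCharacter K → Finset (IrrCharacter G) := fun θ => NE₀ (rep θ)
  let X : IrrCharacter K → Finset (IrrCharacter G) := fun θ => X₀ (rep θ)
  have hrr : ∀ θ, rep (rep θ) = rep θ := by
    intro θ
    simp only [rep, Quotient.out_eq]
  have hst : ∀ θ θ' : IrrCharacter K, (∃ n ∈ normalizer ((P : Subgroup G) : Set G), tw (θ : K → ℂ) n = (θ' : K → ℂ)) →
      rep θ = rep θ' := by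
    intro θ θ' h
    have h1 : (Quotient.mk (setoidK hK) θ) = Quotient.mk (setoidK hK) θ' := Quotient.sound h
    simp only [rep, h1]
  have horbeq : ∀ θ θ' : IrrCharacter K, θ' ∈ orb P K (θ : K → ℂ) → orb P K (θ' : K → ℂ) = orb P K (θ : K → ℂ) := by
    intro θ θ' h'
    obtain ⟨n, hn, h⟩ := mem_orb.1 h'
    ext ξ
    rw [mem_orb, mem_orb]
    constructor
    · rintro ⟨m, hm, h3⟩
      exact ⟨n * m, mul_mem hn hm, by rw [tw_mul hK _ hn hm, h, h3]⟩
    · rintro ⟨m, hm, h3⟩
      refine ⟨n⁻¹ * m, mul_mem (inv_mem hn) hm, ?_⟩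
      rw [← h, ← tw_mul hK _ hn (mul_mem (inv_mem hn) hm), mul_inv_cancel_left, h3]
  have hest : ∀ θ θ' : IrrCharacter K, θ' ∈ orb P K (θ : K → ℂ) →
      Nat.card (stabAct hK (θ' : K → ℂ)) = Nat.card (stabAct hK (θ : K → ℂ)) := by
    intro θ θ' h'
    have h3 := card_stabAct_mul_card_orb hK hP θ.2
    have h4 := card_stabAct_mul_card_orb hK hP θ'.2
    rw [horbeq θ θ' h', ← h3] at h4
    have h5 : 0 < (orb P K (θ : K → ℂ)).card := Finset.card_pos.2 ⟨θ, mem_orb.2 ⟨1, one_mem _, tw_one _⟩⟩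
    exact Nat.eq_of_mul_eq_mul_right h5 h4
  have hOv : ∀ (θ : IrrCharacter K) (χ : IrrCharacter G), χ ∈ Over P (θ : K → ℂ) ↔ χ ∈ NE θ ∨ χ ∈ X θ := by
    intro θ χ
    obtain ⟨n, hn, h⟩ := hrep θ
    rw [← h, Over_tw hK hn]
    have h1 := hO₀ (rep θ) χ
    rw [hrr] at h1
    exact h1
  have hNEc : ∀ θ : IrrCharacter K, (NE θ).card = Nat.card (stabAct hK (θ : K → ℂ)) := by
    intro θ
    have h1 := hN₀ (rep θ)
    rw [hrr] at h1
    have h2 : θ ∈ orb P K (rep θ : K → ℂ) := mem_orb.2 (hrep θ)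
    rw [hest _ _ h2]
    exact h1
  set T : Finset (IrrCharacter G) := A.biUnion NE with hT
  -- the weight of `T`
  have hweight : w * T.card ≤ ∑ θ ∈ A, Nat.card (stabAct hK (θ : K → ℂ)) ^ 2 := by
    calc w * T.card = ∑ _χ ∈ T, w := by rw [Finset.sum_const, smul_eq_mul, mul_comm]
      _ ≤ ∑ χ ∈ T, ∑ θ ∈ A, (if χ ∈ NE θ then Nat.card (stabAct hK (θ : K → ℂ)) else 0) := by
          refine Finset.sum_le_sum fun χ hχ => ?_
          obtain ⟨θ, hθA, hθ⟩ := mem_biUnion.1 hχ
          have hov : χ ∈ Over P (θ : K → ℂ) := (hOv θ χ).2 (Or.inl hθ)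
          have hl : Lies Z c (χ : G → ℂ) := lies_of_over hZ hZK θ.2 ((hA θ).2 hθA) hov
          have horb : ∀ θ' ∈ orb P K (θ : K → ℂ), θ' ∈ A ∧ χ ∈ NE θ' := by
            intro θ' hθ'
            obtain ⟨n, hn, h⟩ := mem_orb.1 hθ'
            have h1 : χ ∈ Over P (θ' : K → ℂ) := by rw [← h, Over_tw hK hn]; exact hov
            refine ⟨(hA θ').1 (liesK_of_over hZ hZK hl θ'.2 h1), ?_⟩
            have h2 : rep θ = rep θ' := hst θ θ' ⟨n, hn, h⟩
            show χ ∈ NE₀ (rep θ')
            rw [← h2]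
            exact hθ
          calc w = ∑ θ' ∈ orb P K (θ : K → ℂ), Nat.card (stabAct hK (θ : K → ℂ)) := by
                rw [Finset.sum_const, smul_eq_mul, ← hw, ← card_stabAct_mul_card_orb hK hP θ.2, mul_comm]
            _ = ∑ θ' ∈ orb P K (θ : K → ℂ),
                  (if χ ∈ NE θ' then Nat.card (stabAct hK (θ' : K → ℂ)) else 0) := by
                refine Finset.sum_congr rfl fun θ' hθ' => ?_
                rw [if_pos (horb θ' hθ').2, hest θ θ' hθ']
            _ ≤ _ := Finset.sum_le_sum_of_subset fun θ' hθ' => (horb θ' hθ').1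
      _ = ∑ θ ∈ A, ∑ χ ∈ T, (if χ ∈ NE θ then Nat.card (stabAct hK (θ : K → ℂ)) else 0) := Finset.sum_comm
      _ ≤ _ := by
          refine Finset.sum_le_sum fun θ _ => ?_
          rw [← Finset.sum_filter, Finset.sum_const, smul_eq_mul, pow_two]
          refine Nat.mul_le_mul_right _ ?_
          rw [← hNEc θ]
          exact Finset.card_le_card fun χ hχ => (mem_filter.1 hχ).2
  -- the linear map
  refine le_trans (Nat.mul_le_mul_left w ?_) hweight
  let f : (ι → ℂ) → G → ℂ := fun v => ∑ i, v i • bump Z c (r i)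
  have hfs : ∀ v, f v ∈ space Z c := fun v => Submodule.sum_mem _ fun i _ => Submodule.smul_mem _ _ (bump_mem hZ c (r i))
  have hf0 : ∀ (v : ι → ℂ) (g : G), p ∣ orderOf g → f v g = 0 := by
    intro v g hg
    simp only [f, Finset.sum_apply, Pi.smul_apply, smul_eq_mul]
    refine Finset.sum_eq_zero fun i _ => ?_
    rw [bump_eq_zero c (fun h => hrp i g h hg), mul_zero]
  have hfr : ∀ (v : ι → ℂ) (i : ι), f v (r i) = v i * bump Z c (r i) (r i) := by
    intro v i
    simp only [f, Finset.sum_apply, Pi.smul_apply, smul_eq_mul]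
    refine Finset.sum_eq_single i (fun j _ hj => ?_) (fun h => absurd (mem_univ i) h)
    rw [bump_eq_zero c (fun h => hj (hri j i h)), mul_zero]
  let L : (ι → ℂ) →ₗ[ℂ] ({χ : IrrCharacter G // χ ∈ T} → ℂ) :=
    { toFun := fun v χ => ∑ g : G, f v g * conj ((χ.1 : G → ℂ) g)
      map_add' := by
        intro v v'
        funext χ
        simp only [f, Pi.add_apply, add_smul, Finset.sum_add_distrib, add_mul]
      map_smul' := by
        intro a v
        funext χ
        simp only [f, Pi.smul_apply, smul_eq_mul, RingHom.id_apply, mul_smul, ← Finset.smul_sum, Finset.mul_sum,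
          mul_assoc] }
  have hcoef : ∀ v, L v = 0 → ∀ χ : IrrCharacter G, classInner (f v) (χ : G → ℂ) = 0 := by
    intro v hv χ
    have hT0 : ∀ ψ ∈ T, ∑ g : G, f v g * conj ((ψ : G → ℂ) g) = 0 := fun ψ hψ => congrFun hv ⟨ψ, hψ⟩
    by_cases hl : Lies Z c (χ : G → ℂ)
    · rw [classInner_def]
      obtain ⟨θ, hθ⟩ := exists_mem_Over hK hP (hno χ hl)
      have hθA : θ ∈ A := (hA θ).1 (liesK_of_over hZ hZK hl θ.2 hθ)
      rcases (hOv θ χ).1 hθ with h1 | h1
      · rw [hT0 χ (mem_biUnion.2 ⟨θ, hθA, h1⟩), mul_zero]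
      · obtain ⟨ε, d, hd, hreg⟩ := hX₀ (rep θ) χ h1
        have h2 : (d : ℂ) * ∑ g : G, f v g * conj ((χ : G → ℂ) g) = 0 := by
          have h3 : ∀ g : G, (d : ℂ) * (f v g * conj ((χ : G → ℂ) g)) =
              ∑ ψ ∈ NE₀ (rep θ), (ε ψ : ℂ) * (f v g * conj ((ψ : G → ℂ) g)) := by
            intro g
            by_cases hg : p ∣ orderOf g
            · rw [hf0 v g hg]
              simp
            · have h4 := congrArg conj (hreg g hg)
              rw [map_sum, map_mul] at h4
              have h5 : conj ((d : ℤ) : ℂ) = ((d : ℤ) : ℂ) := map_intCast (starRingEnd ℂ) d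
              rw [h5] at h4
              calc (d : ℂ) * (f v g * conj ((χ : G → ℂ) g)) = f v g * ((d : ℂ) * conj ((χ : G → ℂ) g)) := by ring
                _ = _ := by
                  rw [← h4, Finset.mul_sum]
                  refine Finset.sum_congr rfl fun ψ _ => ?_
                  rw [map_mul, show conj ((ε ψ : ℤ) : ℂ) = ((ε ψ : ℤ) : ℂ) from map_intCast (starRingEnd ℂ) _]
                  ring
          rw [Finset.mul_sum, Finset.sum_congr rfl fun g _ => h3 g, Finset.sum_comm]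
          refine Finset.sum_eq_zero fun ψ hψ => ?_
          rw [← Finset.mul_sum, hT0 ψ (mem_biUnion.2 ⟨θ, hθA, hψ⟩), mul_zero]
        have h3 : (d : ℂ) ≠ 0 := by
          rcases hd with rfl | rfl <;> norm_num
        rcases mul_eq_zero.1 h2 with h4 | h4
        · exact absurd h4 h3
        · rw [h4, mul_zero]
    · obtain ⟨d, hd⟩ := exists_hom hZ χ.2
      exact classInner_eq_zero (hfs v).2 hd fun hcd => hl (hcd ▸ hd)
  have hinj : Function.Injective L := by
    rw [← LinearMap.ker_eq_bot, LinearMap.ker_eq_bot']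
    intro v hv
    have h1 : f v = 0 := by
      rw [classFunction_eq_sum (hfs v).1]
      refine Finset.sum_eq_zero fun χ _ => ?_
      rw [hcoef v hv χ, zero_smul]
    funext i
    have h2 := hfr v i
    rw [h1, Pi.zero_apply] at h2
    rcases mul_eq_zero.1 h2.symm with h3 | h3
    · exact h3
    · exact absurd h3 (bump_self_ne_zero c (hr i))
  have h1 := LinearMap.finrank_le_finrank_of_injective hinj
  rw [Module.finrank_fintype_fun_eq_card, Module.finrank_fintype_fun_eq_card] at h1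
  simpa using h1

end reg

/-! ### Classes of `C(y)` -/

section classes

/-- `y` central of order `p`, `K` a complement of order prime to `p`: `p k(K) ≤ k(C)`. -/
theorem card_classes_mul {C : Type*} [Group C] [Finite C] {p : ℕ} (hp : p.Prime) {y : C} (hy : orderOf y = p)
    (hyc : y ∈ center C) {K : Subgroup C} (hK : ¬ p ∣ Nat.card K) (hc : Nat.card C = p * Nat.card K) :
    p * Nat.card (ConjClasses K) ≤ Nat.card (ConjClasses C) := by
  classical
  have hfK : Finite (ConjClasses K) := Finite.of_surjective _ (ConjClasses.mk_surjective (α := K))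
  have hfC : Finite (ConjClasses C) := Finite.of_surjective _ (ConjClasses.mk_surjective (α := C))
  have hco : (Nat.card (zpowers y)).Coprime (Nat.card K) := by
    rw [Nat.card_zpowers, hy]
    exact (hp.coprime_iff_not_dvd).2 hK
  have hcompl : IsComplement' (zpowers y) K := isComplement'_of_coprime (by rw [Nat.card_zpowers, hy, hc]) hco
  have hcomm : ∀ (c : C) (i : ℕ), c * y ^ i = y ^ i * c := fun c i =>
    mem_center_iff.1 (pow_mem hyc i) c
  let F : Fin p × ConjClasses K → ConjClasses C := fun q => ConjClasses.mk (y ^ (q.1 : ℕ) * ((q.2.out : K) : C))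
  have hF : Function.Injective F := by
    rintro ⟨i, D⟩ ⟨j, D'⟩ h
    obtain ⟨c, hc'⟩ := isConj_iff.1 (ConjClasses.mk_eq_mk_iff_isConj.1 h)
    set v : K := D.out with hv
    set v' : K := D'.out with hv'
    have h1 : y ^ (i : ℕ) * (c * v * c⁻¹) = y ^ (j : ℕ) * v' := by
      rw [← hc', ← mul_assoc, ← mul_assoc, ← mul_assoc, hcomm c i]
    -- the `p`-parts
    have h2 : (y ^ (i : ℕ)) ^ Nat.card K = (y ^ (j : ℕ)) ^ Nat.card K := by
      have h3 : Commute (y ^ (i : ℕ)) (c * v * c⁻¹) := (hcomm _ i).symm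
      have h4 : Commute (y ^ (j : ℕ)) (v' : C) := (hcomm _ j).symm
      have h5 : ∀ a : K, (a : C) ^ Nat.card K = 1 := fun a => by
        have := pow_card_eq_one' (G := K) (x := a)
        exact congrArg Subtype.val this
      have h6 := congrArg (fun t => t ^ Nat.card K) h1
      simp only [h3.mul_pow, h4.mul_pow, h5, conj_pow, mul_one, mul_inv_cancel] at h6
      exact h6
    have h3 : (i : ℕ) = j := by
      rw [← pow_mul, ← pow_mul, pow_eq_pow_iff_modEq, hy] at h2
      have h4 : (i : ℕ) ≡ j [MOD p] := Nat.ModEq.cancel_right_of_coprime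
        ((hp.coprime_iff_not_dvd).2 hK) h2
      rw [Nat.ModEq, Nat.mod_eq_of_lt i.2, Nat.mod_eq_of_lt j.2] at h4
      exact h4
    have h4 : c * v * c⁻¹ = v' := by
      rw [h3] at h1
      exact mul_left_cancel h1
    obtain ⟨⟨a, b⟩, hab⟩ := hcompl.2 c
    obtain ⟨s, hs⟩ := mem_powers_iff_mem_zpowers.2 a.2
    have h5 : ((b : C) * v * (b : C)⁻¹) = v' := by
      have h6 : c = y ^ s * b := by
        rw [← hab]
        have : (a : C) = y ^ s := hs.symm
        simp only [this]
      rw [← h4, h6]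
      have h7 := hcomm ((b : C) * v * (b : C)⁻¹) s
      calc (b : C) * v * (b : C)⁻¹ = y ^ s * ((b : C) * v * (b : C)⁻¹) * (y ^ s)⁻¹ := by
            rw [← h7, mul_inv_cancel_right]
        _ = _ := by group
    have h6 : IsConj v v' := isConj_iff.2 ⟨b, Subtype.ext h5⟩
    have h7 : D = D' := by
      rw [← Quotient.out_eq D, ← Quotient.out_eq D']
      exact Quotient.sound h6
    exact Prod.ext (Fin.ext h3) h7
  have h1 := Nat.card_le_card_of_injective F hF
  rwa [Nat.card_prod, Nat.card_fin] at h1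

/-- The number of classes of a subgroup of order `k` of `C`, `|C| = p k`, `y` central of order `p`. -/
theorem classes_le {S : Type*} [Group S] [Finite S] {p k a : ℕ} (hp : p.Prime) {y : S} (hy : orderOf y = p)
    (hC : Nat.card (centralizer ({y} : Set S)) = p * k) (hpk : ¬ p ∣ k)
    (ha : Nat.card (ConjClasses (centralizer ({y} : Set S))) ≤ p * a) (C₀ : Subgroup S)
    (h0 : C₀ ≤ centralizer {y}) (hk : Nat.card C₀ = k) : Nat.card (ConjClasses C₀) ≤ a := by
  have hyC : y ∈ centralizer ({y} : Set S) := by rw [mem_centralizer_singleton_iff]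
  have hcs : Nat.card (C₀.subgroupOf (centralizer ({y} : Set S))) = k := by
    rw [Nat.card_congr (subgroupOfEquivOfLe h0).toEquiv, hk]
  have h3 := card_classes_mul hp (C := centralizer ({y} : Set S)) (y := ⟨y, hyC⟩)
    (by rw [← Subgroup.orderOf_coe]; exact hy)
    (by
      rw [mem_center_iff]
      intro g
      exact Subtype.ext (mem_centralizer_singleton_iff.1 g.2))
    (K := C₀.subgroupOf (centralizer ({y} : Set S))) (by rw [hcs]; exact hpk) (by rw [hcs, hC])
  have h4 : Nat.card (ConjClasses C₀) ≤ Nat.card (ConjClasses (C₀.subgroupOf (centralizer ({y} : Set S)))) := by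
    have hfC : Finite (ConjClasses (C₀.subgroupOf (centralizer ({y} : Set S)))) :=
      Finite.of_surjective _ (ConjClasses.mk_surjective)
    refine Nat.card_le_card_of_injective (ConjClasses.map (subgroupOfEquivOfLe h0).symm.toMonoidHom) ?_
    intro x z h
    obtain ⟨a, rfl⟩ := ConjClasses.mk_surjective x
    obtain ⟨b, rfl⟩ := ConjClasses.mk_surjective z
    have h1 : IsConj ((subgroupOfEquivOfLe h0).symm a) ((subgroupOfEquivOfLe h0).symm b) :=
      ConjClasses.mk_eq_mk_iff_isConj.1 h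
    obtain ⟨c, hc⟩ := isConj_iff.1 h1
    refine ConjClasses.mk_eq_mk_iff_isConj.2 (isConj_iff.2 ⟨subgroupOfEquivOfLe h0 c,
      (subgroupOfEquivOfLe h0).symm.injective ?_⟩)
    simpa using hc
  have h5 := Nat.le_of_mul_le_mul_left (h3.trans ha) hp.pos
  omega

end classes

/-! ### The criterion -/

section crit

variable {G : Type u} [Group G] [Finite G] {p : ℕ} [Fact p.Prime]

/-- **The local data of a cover.** -/
theorem setup {Z : Subgroup G} [Z.Normal] (hZ : Z ≤ center G) (hZp : ¬ p ∣ Nat.card Z)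
    (hsq : ¬ p ^ 2 ∣ Nat.card (G ⧸ Z)) {y : G ⧸ Z} (hy : orderOf y = p) {k w : ℕ}
    (hC : Nat.card (centralizer ({y} : Set (G ⧸ Z))) = p * k)
    (hN : Nat.card (normalizer ((zpowers y : Subgroup (G ⧸ Z)) : Set (G ⧸ Z))) = w * (p * k)) :
    ∃ (P : Sylow p G) (K : Subgroup G), Nat.card P = p ∧ IsComp p (P : Subgroup G) K ∧ Z ≤ K ∧
      Nat.card K = k * Nat.card Z ∧
      (centralizer ((P : Subgroup G) : Set G)).relIndex (normalizer ((P : Subgroup G) : Set G)) = w ∧
      centralizer ((P : Subgroup G) : Set G) = (centralizer ({y} : Set (G ⧸ Z))).comap (QuotientGroup.mk' Z) ∧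
      normalizer ((P : Subgroup G) : Set G) =
        (normalizer ((zpowers y : Subgroup (G ⧸ Z)) : Set (G ⧸ Z))).comap (QuotientGroup.mk' Z) := by
  classical
  have hp : p.Prime := Fact.out
  obtain ⟨u, rfl, hu⟩ := exists_lift hZp hy
  -- the Sylow subgroup
  have hcG := card_eq_card_quotient_mul_card_subgroup Z
  have hG2 : ¬ p ^ 2 ∣ Nat.card G := by
    rw [hcG]
    intro h
    have hco : (p ^ 2).Coprime (Nat.card Z) := Nat.Coprime.pow_left 2 ((hp.coprime_iff_not_dvd).2 hZp)
    exact hsq (hco.dvd_of_dvd_mul_right h)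
  have hzp : IsPGroup p (zpowers u) := IsPGroup.of_card (n := 1) (by rw [Nat.card_zpowers, hu, pow_one])
  obtain ⟨P, hPle⟩ := hzp.exists_le_sylow
  have hP : Nat.card P = p := by
    obtain ⟨n, hn⟩ := (IsPGroup.iff_card).1 P.2
    have h1 : Nat.card P ∣ Nat.card G := card_subgroup_dvd_card _
    have h2 : n < 2 := by
      by_contra h3
      push Not at h3
      exact hG2 ((pow_dvd_pow p h3).trans (hn ▸ h1))
    have h3 : p ∣ Nat.card P := by
      have := card_dvd_of_le hPle
      rwa [Nat.card_zpowers, hu] at this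
    interval_cases n
    · rw [hn, pow_zero, Nat.dvd_one] at h3
      exact absurd h3 hp.one_lt.ne'
    · rw [hn, pow_one]
  have hPz : (P : Subgroup G) = zpowers u := by
    symm
    refine eq_of_le_of_card_ge hPle ?_
    rw [Nat.card_zpowers, hu]
    exact hP.le
  obtain ⟨K, hK⟩ := exists_isComp P hP
  have huP : u ∈ (P : Subgroup G) := hPle (mem_zpowers u)
  have hu1 : u ≠ 1 := by
    rintro rfl
    rw [orderOf_one] at hu
    exact hp.one_lt.ne hu
  have hCP : centralizer ((P : Subgroup G) : Set G) = centralizer ({u} : Set G) :=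
    (Blocks.CyclicOrtho.centralizer_eq P hP huP hu1).symm
  -- the centralizer
  have hcent : centralizer ((P : Subgroup G) : Set G) =
      (centralizer ({(u : G ⧸ Z)} : Set (G ⧸ Z))).comap (QuotientGroup.mk' Z) := by
    rw [hCP]
    ext x
    rw [mem_centralizer_singleton_iff, mem_comap, mem_centralizer_singleton_iff]
    constructor
    · intro h
      have := congrArg (QuotientGroup.mk' Z) h
      simpa using this
    · intro h
      have h1 : (x : G ⧸ Z) * u * (x : G ⧸ Z)⁻¹ = (u : G ⧸ Z) ^ 1 := by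
        have h2 : (x : G ⧸ Z) * u = u * x := h
        rw [h2, mul_inv_cancel_right, pow_one]
      have h2 := comm_of_comm hZ hZp hu h1
      rw [pow_one, mul_inv_eq_iff_eq_mul] at h2
      exact h2
  have hnorm : normalizer ((P : Subgroup G) : Set G) =
      (normalizer ((zpowers (u : G ⧸ Z) : Subgroup (G ⧸ Z)) : Set (G ⧸ Z))).comap (QuotientGroup.mk' Z) := by
    have hPm : (P : Subgroup G).map (QuotientGroup.mk' Z) = zpowers (u : G ⧸ Z) := by
      rw [hPz, MonoidHom.map_zpowers]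
      rfl
    apply le_antisymm
    · intro x hx
      rw [mem_comap, ← hPm]
      exact Subgroup.le_normalizer_map _ (mem_map_of_mem _ hx)
    · intro x hx
      rw [mem_comap] at hx
      have h1 : (x : G ⧸ Z) * u * (x : G ⧸ Z)⁻¹ ∈ zpowers (u : G ⧸ Z) :=
        (mem_normalizer_iff.1 hx (u : G ⧸ Z)).1 (mem_zpowers _)
      obtain ⟨j, hj⟩ := mem_powers_iff_mem_zpowers.2 h1
      have h2 := comm_of_comm hZ hZp hu (x := x) (j := j) hj.symm
      refine mem_normalizer_fintype fun n hn => ?_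
      have hn' : n ∈ zpowers u := by rw [← hPz]; exact hn
      obtain ⟨i, rfl⟩ := mem_powers_iff_mem_zpowers.2 hn'
      show x * u ^ i * x⁻¹ ∈ (P : Subgroup G)
      rw [← conj_pow, h2, hPz]
      exact pow_mem (pow_mem (mem_zpowers u) j) i
  have hcC : Nat.card (centralizer ((P : Subgroup G) : Set G)) = p * k * Nat.card Z := by
    rw [hcent, card_comap, hC]
  have hcN : Nat.card (normalizer ((P : Subgroup G) : Set G)) = w * (p * k) * Nat.card Z := by
    rw [hnorm, card_comap, hN]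
  have hcK : Nat.card K = k * Nat.card Z := by
    have h1 : Nat.card P * Nat.card K = Nat.card (centralizer ((P : Subgroup G) : Set G)) := by
      rw [← Nat.card_prod]
      exact Nat.card_congr (prodEquiv hK hP).toEquiv
    rw [hP, hcC, mul_assoc] at h1
    exact Nat.eq_of_mul_eq_mul_left hp.pos h1
  have hZK : Z ≤ K := by
    intro z hz
    rw [hK]
    refine ⟨?_, fun h => hZp ?_⟩
    · rw [mem_centralizer_iff]
      intro g _
      exact mem_center_iff.1 (hZ hz) g
    · have h1 := _root_.orderOf_dvd_natCard (⟨z, hz⟩ : Z)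
      rw [← orderOf_submonoid] at h1
      exact h.trans h1
  have hk0 : 0 < k := by
    rcases Nat.eq_zero_or_pos k with h | h
    · rw [h, zero_mul] at hcK
      exact absurd hcK Nat.card_pos.ne'
    · exact h
  have hw : (centralizer ((P : Subgroup G) : Set G)).relIndex (normalizer ((P : Subgroup G) : Set G)) = w := by
    have h1 : centralizer ((P : Subgroup G) : Set G) ≤ normalizer ((P : Subgroup G) : Set G) :=
      centralizer_le_normalizer _
    have h2 := Subgroup.card_mul_index ((centralizer ((P : Subgroup G) : Set G)).subgroupOf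
      (normalizer ((P : Subgroup G) : Set G)))
    rw [Nat.card_congr (subgroupOfEquivOfLe h1).toEquiv, hcC, hcN] at h2
    have h3 : 0 < p * k * Nat.card Z := Nat.mul_pos (Nat.mul_pos hp.pos hk0) Nat.card_pos
    rw [Subgroup.relIndex]
    apply Nat.eq_of_mul_eq_mul_left h3
    rw [h2]
    ring
  exact ⟨P, K, hP, hK, hZK, hcK, hw, hcent, hnorm⟩

/-- **The count of the `p`-regular classes, in terms of the quotient.** -/
theorem exists_dvd_reg {Z : Subgroup G} [Z.Normal] (hZ : Z ≤ center G) (hZp : ¬ p ∣ Nat.card Z)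
    (hsq : ¬ p ^ 2 ∣ Nat.card (G ⧸ Z)) {y : G ⧸ Z} (hy : orderOf y = p) {k w a : ℕ}
    (hC : Nat.card (centralizer ({y} : Set (G ⧸ Z))) = p * k)
    (hN : Nat.card (normalizer ((zpowers y : Subgroup (G ⧸ Z)) : Set (G ⧸ Z))) = w * (p * k))
    (hk' : ∀ C₀ : Subgroup (G ⧸ Z), C₀ ≤ centralizer {y} → Nat.card C₀ = k → Nat.card (ConjClasses C₀) ≤ a)
    (c : Z →* ℂˣ) {ι : Type*} [Fintype ι] (f : ι → G ⧸ Z) (hf : ∀ i j, IsConj (f i) (f j) → i = j)
    (hfp : ∀ i, ¬ p ∣ orderOf (f i)) (hg : ∀ (i : ι) (g : G), (g : G ⧸ Z) = f i → Good Z c g)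
    (hlt : a * w < Fintype.card ι) :
    ∃ χ : IrrCharacter G, Lies Z c (χ : G → ℂ) ∧ p ∣ charDegree (χ : G → ℂ) := by
  classical
  have hp : p.Prime := Fact.out
  have hfinG : Finite (IrrCharacter G) := finite_irr
  by_contra hcon
  push Not at hcon
  obtain ⟨P, K, hP, hK, hZK, hcK, hw, hcent, -⟩ := setup hZ hZp hsq hy hC hN
  have hfK : Finite (IrrCharacter K) := finite_irr
  have := Fintype.ofFinite (IrrCharacter K)
  set A : Finset (IrrCharacter K) := univ.filter fun θ => LiesK Z c K (θ : K → ℂ) with hA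
  -- the bound for `A`
  have hAa : A.card ≤ a := by
    refine (H620.RIM.card_liesK_le_classes hZ hZK c A fun θ hθ => (mem_filter.1 hθ).2).trans (hk' _ ?_ ?_)
    · rintro x ⟨x, hx, rfl⟩
      have h2 : (x : G) ∈ centralizer ((P : Subgroup G) : Set G) := ((hK _).1 hx).1
      rw [hcent] at h2
      exact h2
    · have h2 := card_comap (Z := Z) (K.map (QuotientGroup.mk' Z))
      have h3 : (K.map (QuotientGroup.mk' Z)).comap (QuotientGroup.mk' Z) = K := by
        rw [comap_map_eq, QuotientGroup.ker_mk', sup_of_le_left hZK]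
      rw [h3, hcK] at h2
      exact (Nat.eq_of_mul_eq_mul_right Nat.card_pos h2).symm
  have hw0 : 0 < w := by
    rcases Nat.eq_zero_or_pos w with h | h
    · rw [h, zero_mul] at hN
      exact absurd hN Nat.card_pos.ne'
    · exact h
  choose r hr using fun i => QuotientGroup.mk_surjective (s := Z) (f i)
  have h1 := card_reg_le hK hP hZ hZK hw A (fun θ => by rw [hA, mem_filter]; simp) (fun χ hl => by
      -- degree prime to `p`: nonzero at the `p`-elements
      obtain ⟨x, hx, hx1⟩ := exists_ne_one (P := (P : Subgroup G)) hP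
      by_contra h2
      apply hcon χ hl
      obtain ⟨d, hd⟩ := exists_degree_eq (P : Subgroup G) (isIrr_isCharacter χ.2) fun x hx hx1 => by
        by_contra h3
        exact h2 ⟨x, by rw [Blocks.CyclicOrtho.orderOf_eq P hP hx hx1], h3⟩
      rw [hP] at hd
      refine ⟨d, ?_⟩
      have h1 : ((charDegree (χ : G → ℂ) : ℕ) : ℂ) = ((p * d : ℕ) : ℂ) := by
        obtain ⟨n, hn⟩ := isCharacter_apply_one (isIrr_isCharacter χ.2)
        unfold charDegree
        rw [hn, Complex.natCast_re, Nat.floor_natCast, ← hn, hd]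
        push_cast
        ring
      exact_mod_cast h1)
    r (fun i => hg i (r i) (hr i)) (fun i j h => hf i j (by rw [← hr i, ← hr j]; exact ConjClasses.mk_eq_mk_iff_isConj.1 h))
    (fun i g h hpg => by
      rw [hr i] at h
      obtain ⟨x, hx⟩ := isConj_iff.1 (ConjClasses.mk_eq_mk_iff_isConj.1 h)
      apply hfp i
      have h2 : orderOf (f i) = orderOf (g : G ⧸ Z) := by
        rw [← hx]
        exact (MulEquiv.orderOf_eq (MulAut.conj x) (f i)).symm
      rw [h2]
      -- `p` divides the order of the image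
      have h3 : orderOf g ∣ orderOf (g : G ⧸ Z) * Nat.card Z := by
        have h4 : g ^ orderOf (g : G ⧸ Z) ∈ Z := by
          rw [← QuotientGroup.eq_one_iff, QuotientGroup.mk_pow]
          exact pow_orderOf_eq_one _
        have h5 := congrArg Subtype.val (pow_card_eq_one' (G := Z) (x := ⟨_, h4⟩))
        exact orderOf_dvd_of_pow_eq_one (by rw [pow_mul]; exact h5)
      exact (hp.dvd_mul.1 (hpg.trans h3)).resolve_right hZp)
  have h2 : ∑ θ ∈ A, Nat.card (stabAct hK (θ : K → ℂ)) ^ 2 ≤ a * w ^ 2 := by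
    calc ∑ θ ∈ A, Nat.card (stabAct hK (θ : K → ℂ)) ^ 2 ≤ ∑ _θ ∈ A, w ^ 2 := by
          refine Finset.sum_le_sum fun θ _ => Nat.pow_le_pow_left ?_ 2
          have h1 := card_stabAct_mul_card_orb hK hP θ.2
          rw [hw] at h1
          exact Nat.le_of_dvd hw0 (h1 ▸ dvd_mul_right _ _)
      _ = A.card * w ^ 2 := by rw [Finset.sum_const, smul_eq_mul]
      _ ≤ a * w ^ 2 := Nat.mul_le_mul_right _ hAa
  have h3 : w * Fintype.card ι ≤ w * (a * w) := by
    calc w * Fintype.card ι ≤ a * w ^ 2 := h1.trans h2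
      _ = w * (a * w) := by ring
  have h4 := Nat.le_of_mul_le_mul_left h3 hw0
  omega

/-- All characters over `c` of degree prime to `p`: they do not vanish on the `p`-singular elements. -/
theorem nonzero_of_not_dvd {P : Sylow p G} (hP : Nat.card P = p) {χ : IrrCharacter G}
    (h : ¬ p ∣ charDegree (χ : G → ℂ)) : χ ∈ nonzeroOn p G := by
  by_contra h2
  apply h
  obtain ⟨d, hd⟩ := exists_degree_eq (P : Subgroup G) (isIrr_isCharacter χ.2) fun x hx hx1 => by
    by_contra h3
    exact h2 ⟨x, by rw [Blocks.CyclicOrtho.orderOf_eq P hP hx hx1], h3⟩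
  rw [hP] at hd
  refine ⟨d, ?_⟩
  have h1 : ((charDegree (χ : G → ℂ) : ℕ) : ℂ) = ((p * d : ℕ) : ℂ) := by
    obtain ⟨n, hn⟩ := isCharacter_apply_one (isIrr_isCharacter χ.2)
    unfold charDegree
    rw [hn, Complex.natCast_re, Nat.floor_natCast, ← hn, hd]
    push_cast
    ring
  exact_mod_cast h1

/-- `p ∣ orderOf g` implies `p ∣ orderOf (g : G ⧸ Z)`. -/
theorem dvd_orderOf_quot {Z : Subgroup G} [Z.Normal] (hZp : ¬ p ∣ Nat.card Z) {g : G} (hpg : p ∣ orderOf g) :
    p ∣ orderOf (g : G ⧸ Z) := by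
  have hp : p.Prime := Fact.out
  have h3 : orderOf g ∣ orderOf (g : G ⧸ Z) * Nat.card Z := by
    have h4 : g ^ orderOf (g : G ⧸ Z) ∈ Z := by
      rw [← QuotientGroup.eq_one_iff, QuotientGroup.mk_pow]
      exact pow_orderOf_eq_one _
    have h5 := congrArg Subtype.val (pow_card_eq_one' (G := Z) (x := ⟨_, h4⟩))
    exact orderOf_dvd_of_pow_eq_one (by rw [pow_mul]; exact h5)
  exact (hp.dvd_mul.1 (hpg.trans h3)).resolve_right hZp

/-- **The count of the `p`-regular classes with a bound for the invariant `θ`.**  At most `a` characters of `K` over `c` are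
`N(P)`-invariant, at most `b` are over `c`: if there are more than `(3 a + b) w / 4` good `p`-regular classes, then some
character over `c` has degree divisible by `p`. -/
theorem exists_dvd_reg_inv {P : Sylow p G} {K : Subgroup G} (hK : IsComp p (P : Subgroup G) K) (hP : Nat.card P = p)
    {Z : Subgroup G} [Z.Normal] (hZ : Z ≤ center G) (hZp : ¬ p ∣ Nat.card Z) (hZK : Z ≤ K) {c : Z →* ℂˣ} {w : ℕ}
    (hw : (centralizer ((P : Subgroup G) : Set G)).relIndex (normalizer ((P : Subgroup G) : Set G)) = w) {a b : ℕ}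
    (ha : ∀ T : Finset (IrrCharacter K), (∀ θ ∈ T, LiesK Z c K (θ : K → ℂ) ∧
      ∀ n ∈ normalizer ((P : Subgroup G) : Set G), tw (θ : K → ℂ) n = (θ : K → ℂ)) → T.card ≤ a)
    (hb : ∀ T : Finset (IrrCharacter K), (∀ θ ∈ T, LiesK Z c K (θ : K → ℂ)) → T.card ≤ b)
    {ι : Type*} [Fintype ι] (f : ι → G ⧸ Z) (hf : ∀ i j, IsConj (f i) (f j) → i = j)
    (hfp : ∀ i, ¬ p ∣ orderOf (f i)) (hg : ∀ (i : ι) (g : G), (g : G ⧸ Z) = f i → Good Z c g)
    (hlt : (3 * a + b) * w < 4 * Fintype.card ι) :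
    ∃ χ : IrrCharacter G, Lies Z c (χ : G → ℂ) ∧ p ∣ charDegree (χ : G → ℂ) := by
  classical
  have hfinG : Finite (IrrCharacter G) := finite_irr
  by_contra hcon
  push Not at hcon
  have hfK : Finite (IrrCharacter K) := finite_irr
  have := Fintype.ofFinite (IrrCharacter K)
  set A : Finset (IrrCharacter K) := univ.filter fun θ => LiesK Z c K (θ : K → ℂ) with hA
  set A₁ : Finset (IrrCharacter K) := A.filter fun θ => ∀ n ∈ normalizer ((P : Subgroup G) : Set G),
    tw (θ : K → ℂ) n = (θ : K → ℂ) with hA₁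
  have h1 : A₁.card ≤ a := ha A₁ fun θ hθ => ⟨(mem_filter.1 (mem_filter.1 hθ).1).2, (mem_filter.1 hθ).2⟩
  have h2 : A.card ≤ b := hb A fun θ hθ => (mem_filter.1 hθ).2
  have hw0 : 0 < w := by
    rw [← hw]
    exact Nat.pos_of_ne_zero (by
      rw [Subgroup.relIndex]
      exact index_ne_zero_of_finite)
  choose r hr using fun i => QuotientGroup.mk_surjective (s := Z) (f i)
  have h3 := card_reg_le hK hP hZ hZK hw A (fun θ => by rw [hA, mem_filter]; simp)
    (fun χ hl => nonzero_of_not_dvd hP (hcon χ hl))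
    r (fun i => hg i (r i) (hr i)) (fun i j h => hf i j (by rw [← hr i, ← hr j]; exact ConjClasses.mk_eq_mk_iff_isConj.1 h))
    (fun i g h hpg => by
      rw [hr i] at h
      obtain ⟨x, hx⟩ := isConj_iff.1 (ConjClasses.mk_eq_mk_iff_isConj.1 h)
      apply hfp i
      have h2 : orderOf (f i) = orderOf (g : G ⧸ Z) := by
        rw [← hx]
        exact (MulEquiv.orderOf_eq (MulAut.conj x) (f i)).symm
      rw [h2]
      exact dvd_orderOf_quot hZp hpg)
  have h4 : ∀ θ ∈ A, 4 * Nat.card (stabAct hK (θ : K → ℂ)) ^ 2 ≤ (if θ ∈ A₁ then 3 * w ^ 2 else 0) + w ^ 2 := by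
    intro θ hθ
    have h5 := card_stabAct_mul_card_orb hK hP θ.2
    rw [hw] at h5
    split_ifs with h6
    · have h7 : Nat.card (stabAct hK (θ : K → ℂ)) ≤ w := Nat.le_of_dvd hw0 (h5 ▸ dvd_mul_right _ _)
      have h8 := Nat.pow_le_pow_left h7 2
      omega
    · have h7 : 2 ≤ (orb P K (θ : K → ℂ)).card := by
        by_contra h8
        push Not at h8
        apply h6
        rw [hA₁, mem_filter]
        refine ⟨hθ, fun n hn => ?_⟩
        obtain ⟨θ', hθ'⟩ : ∃ θ' : IrrCharacter K, (θ' : K → ℂ) = tw (θ : K → ℂ) n :=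
          ⟨⟨tw (θ : K → ℂ) n, isIrr_tw hK θ.2 hn⟩, rfl⟩
        have h9 : θ ∈ orb P K (θ : K → ℂ) := mem_orb.2 ⟨1, one_mem _, tw_one _⟩
        have h10 : θ' ∈ orb P K (θ : K → ℂ) := mem_orb.2 ⟨n, hn, hθ'.symm⟩
        have h11 := Finset.card_le_one.1 (Nat.lt_succ_iff.1 h8) θ h9 θ' h10
        rw [← hθ', ← h11]
      have h8 : Nat.card (stabAct hK (θ : K → ℂ)) * 2 ≤ w := by
        rw [← h5]
        exact Nat.mul_le_mul_left _ h7
      have h9 := Nat.pow_le_pow_left h8 2
      rw [Nat.mul_pow] at h9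
      omega
  have h5 : 4 * (w * Fintype.card ι) ≤ (3 * a + b) * w ^ 2 := by
    calc 4 * (w * Fintype.card ι) ≤ 4 * ∑ θ ∈ A, Nat.card (stabAct hK (θ : K → ℂ)) ^ 2 := Nat.mul_le_mul_left 4 h3
      _ = ∑ θ ∈ A, 4 * Nat.card (stabAct hK (θ : K → ℂ)) ^ 2 := by rw [Finset.mul_sum]
      _ ≤ ∑ θ ∈ A, ((if θ ∈ A₁ then 3 * w ^ 2 else 0) + w ^ 2) := Finset.sum_le_sum h4
      _ = A₁.card * (3 * w ^ 2) + A.card * w ^ 2 := by
          rw [Finset.sum_add_distrib, Finset.sum_const, smul_eq_mul, ← Finset.sum_filter, Finset.sum_const,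
            smul_eq_mul]
          have hf1 : A.filter (fun θ => θ ∈ A₁) = A₁ := by
            ext θ
            rw [mem_filter]
            constructor
            · exact fun h => h.2
            · intro h
              refine ⟨?_, h⟩
              rw [hA₁, mem_filter] at h
              exact h.1
          rw [hf1]
      _ ≤ a * (3 * w ^ 2) + b * w ^ 2 := Nat.add_le_add (Nat.mul_le_mul_right _ h1) (Nat.mul_le_mul_right _ h2)
      _ = (3 * a + b) * w ^ 2 := by ring
  have h6 : w * (4 * Fintype.card ι) ≤ w * ((3 * a + b) * w) := by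
    calc w * (4 * Fintype.card ι) = 4 * (w * Fintype.card ι) := by ring
      _ ≤ _ := h5
      _ = w * ((3 * a + b) * w) := by ring
  have h7 := Nat.le_of_mul_le_mul_left h6 hw0
  omega

/-- A bound for the number of invariant characters: `R` meets every `N(P)`-class (modulo `Z`) of elements of `K` whose
commutators with `N(P)` in `Z` are in the kernel of `c`. -/
theorem card_inv_le {P : Sylow p G} {K : Subgroup G} (hK : IsComp p (P : Subgroup G) K)
    {Z : Subgroup G} {c : Z →* ℂˣ} (hZK : Z ≤ K) (R : Finset K)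
    (hR : ∀ r : K, (∃ n ∈ normalizer ((P : Subgroup G) : Set G), ∃ z : Z, c z ≠ 1 ∧ n * r * n⁻¹ = r * z) ∨
      ∃ n ∈ normalizer ((P : Subgroup G) : Set G), ∃ r₀ ∈ R, ∃ z : Z, n * r * n⁻¹ = (r₀ : G) * z)
    (T : Finset (IrrCharacter K)) (hT : ∀ θ ∈ T, LiesK Z c K (θ : K → ℂ) ∧
      ∀ n ∈ normalizer ((P : Subgroup G) : Set G), tw (θ : K → ℂ) n = (θ : K → ℂ)) : T.card ≤ R.card := by
  classical
  -- the value at the conjugates
  have hval : ∀ θ ∈ T, ∀ n ∈ normalizer ((P : Subgroup G) : Set G), ∀ r r' : K, n * (r : G) * n⁻¹ = r' →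
      (θ : K → ℂ) r' = (θ : K → ℂ) r := by
    intro θ hθ n hn r r' h
    have h1 := congrFun ((hT θ hθ).2 n hn) r
    rw [tw_apply hK _ hn] at h1
    have h2 : (⟨n * r * n⁻¹, conj_mem hK hn r.2⟩ : K) = r' := Subtype.ext h
    rw [h2] at h1
    exact h1
  have hfK : Finite (IrrCharacter K) := finite_irr
  let L : ({θ : IrrCharacter K // θ ∈ T} → ℂ) →ₗ[ℂ] ({r : K // r ∈ R} → ℂ) :=
    { toFun := fun v r => ∑ θ : {θ : IrrCharacter K // θ ∈ T}, v θ * (θ.1 : K → ℂ) r.1
      map_add' := by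
        intro v v'
        funext r
        simp only [Pi.add_apply, add_mul, Finset.sum_add_distrib]
      map_smul' := by
        intro a v
        funext r
        simp only [Pi.smul_apply, smul_eq_mul, RingHom.id_apply, Finset.mul_sum, mul_assoc] }
  have hinj : Function.Injective L := by
    rw [← LinearMap.ker_eq_bot, LinearMap.ker_eq_bot']
    intro v hv
    have h0 : ∀ r : K, ∑ θ : {θ : IrrCharacter K // θ ∈ T}, v θ * (θ.1 : K → ℂ) r = 0 := by
      intro r
      rcases hR r with ⟨n, hn, z, hz, h⟩ | ⟨n, hn, r₀, hr₀, z, h⟩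
      · refine Finset.sum_eq_zero fun θ _ => ?_
        have h1 := hval θ.1 θ.2 n hn r ⟨r * z, mul_mem r.2 (hZK z.2)⟩ h
        have h2 := (hT θ.1 θ.2).1 r ⟨r * z, mul_mem r.2 (hZK z.2)⟩ z rfl
        rw [h2] at h1
        have h3 : (θ.1 : K → ℂ) r * ((c z : ℂ) - 1) = 0 := by linear_combination h1
        have h4 : (c z : ℂ) - 1 ≠ 0 := by
          intro h5
          apply hz
          apply Units.ext
          rw [Units.val_one]
          linear_combination h5
        rw [(mul_eq_zero.1 h3).resolve_right h4, mul_zero]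
      · have h1 : ∀ θ : {θ : IrrCharacter K // θ ∈ T}, (θ.1 : K → ℂ) r = (θ.1 : K → ℂ) r₀ * (c z : ℂ) := by
          intro θ
          have h2 := hval θ.1 θ.2 n hn r ⟨r₀ * z, mul_mem r₀.2 (hZK z.2)⟩ h
          have h3 := (hT θ.1 θ.2).1 r₀ ⟨r₀ * z, mul_mem r₀.2 (hZK z.2)⟩ z rfl
          rw [← h2, h3]
        simp only [h1]
        have h2 := congrFun hv ⟨r₀, hr₀⟩
        have h3 : ∑ θ : {θ : IrrCharacter K // θ ∈ T}, v θ * (θ.1 : K → ℂ) r₀ = 0 := h2
        simp only [← mul_assoc]
        rw [← Finset.sum_mul, h3, zero_mul]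
    have hli0 : LinearIndependent ℂ (fun χ : IrrCharacter K => (χ : K → ℂ)) := irr_linearIndependent
    have hli : LinearIndependent ℂ (fun θ : {θ : IrrCharacter K // θ ∈ T} => (θ.1 : K → ℂ)) :=
      LinearIndependent.comp hli0 (fun θ : {θ : IrrCharacter K // θ ∈ T} => θ.1) Subtype.val_injective
    funext θ
    refine Fintype.linearIndependent_iff.1 hli v ?_ θ
    funext r
    simpa using h0 r
  have h1 := LinearMap.finrank_le_finrank_of_injective hinj
  rw [Module.finrank_fintype_fun_eq_card, Module.finrank_fintype_fun_eq_card] at h1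
  simpa using h1

/-- **The count of all characters over `c`**, with an abstract lower bound `n` of their number. -/
theorem exists_dz_quot_n {Z : Subgroup G} [Z.Normal] (hZ : Z ≤ center G) (hZp : ¬ p ∣ Nat.card Z)
    (hsq : ¬ p ^ 2 ∣ Nat.card (G ⧸ Z)) {y : G ⧸ Z} (hy : orderOf y = p) {k w a : ℕ}
    (hC : Nat.card (centralizer ({y} : Set (G ⧸ Z))) = p * k)
    (hN : Nat.card (normalizer ((zpowers y : Subgroup (G ⧸ Z)) : Set (G ⧸ Z))) = w * (p * k))
    (hk' : ∀ C₀ : Subgroup (G ⧸ Z), C₀ ≤ centralizer {y} → Nat.card C₀ = k → Nat.card (ConjClasses C₀) ≤ a)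
    (c : Z →* ℂˣ) {n : ℕ} (hn : n ≤ Nat.card {χ : IrrCharacter G // Lies Z c (χ : G → ℂ)})
    (hlt : a * (w ^ 2 + (p - 1)) < w * n) :
    ∃ χ : IrrCharacter G, Lies Z c (χ : G → ℂ) ∧ p ∣ charDegree (χ : G → ℂ) := by
  classical
  have hp : p.Prime := Fact.out
  have hfinG : Finite (IrrCharacter G) := finite_irr
  have := Fintype.ofFinite (IrrCharacter G)
  by_contra hcon
  push Not at hcon
  obtain ⟨P, K, hP, hK, hZK, hcK, hw, hcent, -⟩ := setup hZ hZp hsq hy hC hN
  have hfK : Finite (IrrCharacter K) := finite_irr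
  have := Fintype.ofFinite (IrrCharacter K)
  set A : Finset (IrrCharacter K) := univ.filter fun θ => LiesK Z c K (θ : K → ℂ) with hA
  have hAa : A.card ≤ a := by
    refine (H620.RIM.card_liesK_le_classes hZ hZK c A fun θ hθ => (mem_filter.1 hθ).2).trans (hk' _ ?_ ?_)
    · rintro x ⟨x, hx, rfl⟩
      have h2 : (x : G) ∈ centralizer ((P : Subgroup G) : Set G) := ((hK _).1 hx).1
      rw [hcent] at h2
      exact h2
    · have h2 := card_comap (Z := Z) (K.map (QuotientGroup.mk' Z))
      have h3 : (K.map (QuotientGroup.mk' Z)).comap (QuotientGroup.mk' Z) = K := by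
        rw [comap_map_eq, QuotientGroup.ker_mk', sup_of_le_left hZK]
      rw [h3, hcK] at h2
      exact (Nat.eq_of_mul_eq_mul_right Nat.card_pos h2).symm
  have hw0 : 0 < w := by
    rcases Nat.eq_zero_or_pos w with h | h
    · rw [h, zero_mul] at hN
      exact absurd hN Nat.card_pos.ne'
    · exact h
  have h1 := card_mul_le hK hP hZ hZK hw A (fun θ hθ => mem_filter.2 ⟨mem_univ _, hθ⟩)
    (Finset.univ.filter fun χ : IrrCharacter G => Lies Z c (χ : G → ℂ)) (fun χ hχ => ⟨(mem_filter.1 hχ).2, by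
      have hl := (mem_filter.1 hχ).2
      by_contra h2
      apply hcon χ hl
      obtain ⟨d, hd⟩ := exists_degree_eq (P : Subgroup G) (isIrr_isCharacter χ.2) fun x hx hx1 => by
        by_contra h3
        exact h2 ⟨x, by rw [Blocks.CyclicOrtho.orderOf_eq P hP hx hx1], h3⟩
      rw [hP] at hd
      refine ⟨d, ?_⟩
      have h1 : ((charDegree (χ : G → ℂ) : ℕ) : ℂ) = ((p * d : ℕ) : ℂ) := by
        obtain ⟨n, hn⟩ := isCharacter_apply_one (isIrr_isCharacter χ.2)
        unfold charDegree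
        rw [hn, Complex.natCast_re, Nat.floor_natCast, ← hn, hd]
        push_cast
        ring
      exact_mod_cast h1⟩)
  rw [Nat.card_eq_fintype_card, Fintype.card_subtype] at hn
  have h2 : ∑ θ ∈ A, (Nat.card (stabAct hK (θ : K → ℂ)) ^ 2 + (p - 1)) ≤ a * (w ^ 2 + (p - 1)) := by
    calc ∑ θ ∈ A, (Nat.card (stabAct hK (θ : K → ℂ)) ^ 2 + (p - 1)) ≤ ∑ _θ ∈ A, (w ^ 2 + (p - 1)) := by
          refine Finset.sum_le_sum fun θ _ => Nat.add_le_add_right (Nat.pow_le_pow_left ?_ 2) _
          have h1 := card_stabAct_mul_card_orb hK hP θ.2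
          rw [hw] at h1
          exact Nat.le_of_dvd hw0 (h1 ▸ dvd_mul_right _ _)
      _ = A.card * (w ^ 2 + (p - 1)) := by rw [Finset.sum_const, smul_eq_mul]
      _ ≤ a * (w ^ 2 + (p - 1)) := Nat.mul_le_mul_right _ hAa
  have h3 := Nat.mul_le_mul_left w hn
  omega

end crit

/-! ### `NB` -/

section nb

open Cfsg.Agent.H665.RIM Cfsg.Agent.H620.RIM

/-- **`NB` by the number of the `p`-regular classes.**  `p ∥ |S|`, `y ∈ S` of order `p`, `|C(y)| = p k`, `|N(⟨y⟩)| = w p k`,
every subgroup of order `k` of `C(y)` has at most `a` classes, more than `a w` `p`-regular classes with `MGood m`. -/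
theorem nb_of_reg {p m : ℕ} (hp : p.Prime) (hpm : ¬ p ∣ m) {S : Type u} [Group S]
    (hsq : ¬ p ^ 2 ∣ Nat.card S) {y : S} (hy : orderOf y = p) {k w a : ℕ}
    (hC : Nat.card (centralizer ({y} : Set S)) = p * k)
    (hN : Nat.card (normalizer ((zpowers y : Subgroup S) : Set S)) = w * (p * k))
    (hk' : ∀ C₀ : Subgroup S, C₀ ≤ centralizer {y} → Nat.card C₀ = k → Nat.card (ConjClasses C₀) ≤ a)
    (F : Finset (ConjClasses S)) (hF : ∀ C ∈ F, ∃ g : S, ConjClasses.mk g = C ∧ ¬ p ∣ orderOf g ∧ MGood m g)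
    (hlt : a * w < F.card) : NB p m S := by
  have : Fact p.Prime := ⟨hp⟩
  refine nb_of_quot fun G _ _ Z _ hZ e hm _ c _ => ?_
  choose r hr using hF
  refine exists_dvd_reg hZ (hm ▸ hpm) (by rwa [Nat.card_congr e.toEquiv]) (y := e.symm y) (k := k) (w := w)
    (a := a) ?_ ?_ ?_ ?_ c (ι := {C // C ∈ F}) (fun C => e.symm (r C.1 C.2)) ?_ ?_ ?_ ?_
  · rw [← hy]
    exact orderOf_injective e.symm.toMonoidHom e.symm.injective y
  · rw [card_centralizer_congr e.symm y, hC]
  · rw [card_normalizer_congr e.symm y, hN]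
  · intro C₀ hC₀ hcard
    have h1 : C₀.map e.toMonoidHom ≤ centralizer {y} := by
      rintro x ⟨x, hx, rfl⟩
      have h2 := mem_centralizer_singleton_iff.1 (hC₀ hx)
      rw [mem_centralizer_singleton_iff]
      have h3 := congrArg e h2
      simpa using h3
    have h2 : Nat.card (C₀.map e.toMonoidHom) = k := by
      rw [← hcard]
      exact (Nat.card_congr (C₀.equivMapOfInjective e.toMonoidHom e.injective).toEquiv).symm
    refine le_trans ?_ (hk' _ h1 h2)
    have : Finite (C₀.map e.toMonoidHom) := Nat.finite_of_card_ne_zero (by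
      rw [h2, ← hcard]; exact Nat.card_pos.ne')
    have hfC : Finite (ConjClasses (C₀.map e.toMonoidHom)) :=
      Finite.of_surjective _ (ConjClasses.mk_surjective)
    have e' : C₀ ≃* C₀.map e.toMonoidHom := C₀.equivMapOfInjective e.toMonoidHom e.injective
    refine Nat.card_le_card_of_injective (ConjClasses.map e'.toMonoidHom) ?_
    intro x z h
    obtain ⟨a, rfl⟩ := ConjClasses.mk_surjective x
    obtain ⟨b, rfl⟩ := ConjClasses.mk_surjective z
    have h1 : IsConj (e' a) (e' b) := ConjClasses.mk_eq_mk_iff_isConj.1 h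
    obtain ⟨c, hc⟩ := isConj_iff.1 h1
    refine ConjClasses.mk_eq_mk_iff_isConj.2 (isConj_iff.2 ⟨e'.symm c, e'.injective ?_⟩)
    rw [map_mul, map_mul, map_inv, MulEquiv.apply_symm_apply]
    exact hc
  · rintro ⟨C, hC⟩ ⟨D, hD⟩ h
    apply Subtype.ext
    show C = D
    rw [← (hr C hC).1, ← (hr D hD).1, ConjClasses.mk_eq_mk_iff_isConj]
    obtain ⟨c, hc⟩ := isConj_iff.1 h
    refine isConj_iff.2 ⟨e c, ?_⟩
    have h2 := congrArg e hc
    simpa using h2
  · rintro ⟨C, hC⟩ h
    apply (hr C hC).2.1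
    have h1 : orderOf (e.symm (r C hC)) = orderOf (r C hC) :=
      orderOf_injective e.symm.toMonoidHom e.symm.injective _
    rwa [h1] at h
  · rintro ⟨C, hC⟩ g hg
    refine good_of_mGood hZ c ?_
    rw [hm]
    have h1 := (hr C hC).2.2.mulEquiv e.symm
    exact hg ▸ h1
  · simpa using hlt

/-- The form with the number of classes of `C(y)`. -/
theorem nb_of_reg_cent {p m : ℕ} (hp : p.Prime) (hpm : ¬ p ∣ m) {S : Type u} [Group S] [Finite S]
    (hsq : ¬ p ^ 2 ∣ Nat.card S) {y : S} (hy : orderOf y = p) {k w a : ℕ}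
    (hC : Nat.card (centralizer ({y} : Set S)) = p * k)
    (hN : Nat.card (normalizer ((zpowers y : Subgroup S) : Set S)) = w * (p * k))
    (ha : Nat.card (ConjClasses (centralizer ({y} : Set S))) ≤ p * a)
    (F : Finset (ConjClasses S)) (hF : ∀ C ∈ F, ∃ g : S, ConjClasses.mk g = C ∧ ¬ p ∣ orderOf g ∧ MGood m g)
    (hlt : a * w < F.card) : NB p m S := by
  refine nb_of_reg hp hpm hsq hy hC hN (classes_le hp hy hC ?_ ha) F hF hlt
  intro h
  apply hsq
  rw [pow_two]
  exact (Nat.mul_dvd_mul_left p h).trans (hC ▸ card_subgroup_dvd_card _)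

/-- The form for `C(y) = ⟨y⟩`: more than `w` `p`-regular classes with `MGood m`. -/
theorem nb_of_reg_self {p m : ℕ} (hp : p.Prime) (hpm : ¬ p ∣ m) {S : Type u} [Group S]
    (hsq : ¬ p ^ 2 ∣ Nat.card S) {y : S} (hy : orderOf y = p) {w : ℕ}
    (hC : Nat.card (centralizer ({y} : Set S)) = p)
    (hN : Nat.card (normalizer ((zpowers y : Subgroup S) : Set S)) = w * p)
    (F : Finset (ConjClasses S)) (hF : ∀ C ∈ F, ∃ g : S, ConjClasses.mk g = C ∧ ¬ p ∣ orderOf g ∧ MGood m g)
    (hlt : w < F.card) : NB p m S := by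
  refine nb_of_reg hp hpm hsq hy (k := 1) (a := 1) (by rw [hC, mul_one]) (by rw [hN, mul_one]) ?_ F hF
    (by rwa [one_mul])
  intro C₀ _ hcard
  have h1 : Subsingleton C₀ := (Nat.card_eq_one_iff_unique.1 hcard).1
  have h2 : Subsingleton (ConjClasses C₀) := by
    refine ⟨fun a b => ?_⟩
    obtain ⟨a, rfl⟩ := ConjClasses.mk_surjective a
    obtain ⟨b, rfl⟩ := ConjClasses.mk_surjective b
    rw [Subsingleton.elim a b]
  have : Nat.card (ConjClasses C₀) = 1 := Nat.card_eq_one_iff_unique.2 ⟨h2, ⟨ConjClasses.mk 1⟩⟩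
  exact this.le

end nb

end Cfsg.Agent.H849.RIM
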