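import Cfsg.Agent.H849.RIM.DzCount
import Cfsg.Agent.H710.VanCount
import Cfsg.Agent.H849.OZ.Bad

/-!
# Zeros of characters over a central character, by counting (helper849, for S4816)

`Z ≤ Z(G)`, `c : Z →* ℂˣ`, `w ∈ G` of order prime to `|Z|`.

* `sum_norm_sq_over` : `|Z| * ∑_{χ over c} |χ(w)| ^ 2 = |C_G(w)|`;
* `exists_zero_over` : if `|C_G(w)| < |Z| * #{χ over c}` then some `χ` over `c` vanishes at `w`;
* `exists_dvd_quot`  : `S = G ⧸ Z`, `y ∈ S` a `p`-element, more than `|C_S(y)|` classes of elements of order prime to `|Z|`: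
  some `χ` over `c` has degree divisible by `p`.
-/

set_option autoImplicit false
set_option linter.unusedSectionVars false

namespace Cfsg.Agent.H849.RIM

open Cfsg Subgroup Finset
open Cfsg.Agent.Characters.Core
open Cfsg.Agent.H622.Over
open scoped ComplexConjugate

universe u

variable {G : Type u} [Group G] [Finite G]

theorem sum_conj_mul_eq_zero {A : Type*} [Group A] [Fintype A] (c d : A →* ℂˣ) (hc : ∀ a, conj (c a : ℂ) = (c a⁻¹ : ℂ))
    (hne : c ≠ d) : ∑ a : A, conj (c a : ℂ) * (d a : ℂ) = 0 := by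
  obtain ⟨a₀, ha₀⟩ : ∃ a, c a ≠ d a := by
    by_contra h
    push Not at h
    exact hne (MonoidHom.ext h)
  have h1 : ∑ a : A, conj (c a : ℂ) * (d a : ℂ) = conj (c a₀ : ℂ) * (d a₀ : ℂ) * ∑ a : A, conj (c a : ℂ) * (d a : ℂ) := by
    conv_lhs => rw [← Equiv.sum_comp (Equiv.mulLeft a₀)]
    rw [Finset.mul_sum]
    refine Finset.sum_congr rfl fun a _ => ?_
    simp only [Equiv.coe_mulLeft, map_mul, Units.val_mul]
    ring
  have h2 : conj (c a₀ : ℂ) * (d a₀ : ℂ) ≠ 1 := by
    intro h3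
    apply ha₀
    apply Units.ext
    have h4 : (c a₀ : ℂ) * conj (c a₀ : ℂ) = 1 := by
      rw [hc, ← Units.val_mul, ← map_mul, mul_inv_cancel, map_one, Units.val_one]
    calc (c a₀ : ℂ) = c a₀ * (conj (c a₀ : ℂ) * (d a₀ : ℂ)) := by rw [h3, mul_one]
      _ = (c a₀ : ℂ) * conj (c a₀ : ℂ) * d a₀ := by ring
      _ = d a₀ := by rw [h4, one_mul]
  have h3 : (1 - conj (c a₀ : ℂ) * (d a₀ : ℂ)) * ∑ a : A, conj (c a : ℂ) * (d a : ℂ) = 0 := by linear_combination h1
  rcases mul_eq_zero.1 h3 with h4 | h4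
  · exact absurd (by linear_combination -h4) h2
  · exact h4

/-- `w z` conjugate to `w`, `w` of order prime to `|Z|`: `z = 1`. -/
theorem eq_one_of_conj {Z : Subgroup G} (hZ : Z ≤ center G) {w : G} (hw : (orderOf w).Coprime (Nat.card Z)) (z : Z)
    (h : IsConj w (w * z)) : z = 1 := by
  obtain ⟨x, hx⟩ := isConj_iff.1 h
  have h1 : (w * (z : G)) ^ orderOf w = 1 := by
    rw [← hx, conj_pow, pow_orderOf_eq_one, mul_one, mul_inv_cancel]
  have hc : Commute w (z : G) := mem_center_iff.1 (hZ z.2) w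
  rw [hc.mul_pow, pow_orderOf_eq_one, one_mul] at h1
  have h2 : orderOf z ∣ orderOf w := orderOf_dvd_of_pow_eq_one (Subtype.ext h1)
  exact orderOf_eq_one_iff.1 (Nat.eq_one_of_dvd_coprimes hw h2 (_root_.orderOf_dvd_natCard z))

open scoped Classical in
/-- **The second orthogonality relation over a central character.** -/
theorem sum_norm_sq_over [Fintype (IrrCharacter G)]
    {Z : Subgroup G} (hZ : Z ≤ center G) (c : Z →* ℂˣ) {w : G}
    (hw : (orderOf w).Coprime (Nat.card Z)) :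
    (Nat.card Z : ℝ) * ∑ χ ∈ univ.filter (fun χ : IrrCharacter G => Lies Z c (χ : G → ℂ)), ‖(χ : G → ℂ) w‖ ^ 2 =
      Nat.card (centralizer ({w} : Set G)) := by
  have := Fintype.ofFinite Z
  have := Fintype.ofFinite G
  have hcard : (Nat.card Z : ℂ) ≠ 0 := by exact_mod_cast Nat.card_pos.ne'
  -- the sum over `Z`
  have h1 : ∀ χ : IrrCharacter G, ∑ z : Z, conj (c z : ℂ) * (χ : G → ℂ) (w * z) =
      if Lies Z c (χ : G → ℂ) then (Nat.card Z : ℂ) * (χ : G → ℂ) w else 0 := by
    intro χ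
    obtain ⟨d, hd⟩ := exists_hom hZ χ.2
    have h2 : ∑ z : Z, conj (c z : ℂ) * (χ : G → ℂ) (w * z) = (∑ z : Z, conj (c z : ℂ) * (d z : ℂ)) * (χ : G → ℂ) w := by
      rw [Finset.sum_mul]
      refine Finset.sum_congr rfl fun z _ => ?_
      rw [hd w z]
      ring
    rw [h2]
    by_cases hcd : c = d
    · subst hcd
      rw [if_pos hd]
      have h3 : ∑ z : Z, conj (c z : ℂ) * (c z : ℂ) = Nat.card Z := by
        rw [Nat.card_eq_fintype_card, ← Finset.card_univ, ← nsmul_one, ← Finset.sum_const]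
        refine Finset.sum_congr rfl fun z _ => ?_
        rw [mul_comm]
        exact hom_mul_conj c z
      rw [h3]
    · rw [sum_conj_mul_eq_zero c d (fun a => conj_hom c a) hcd, zero_mul, if_neg]
      intro h3
      apply hcd
      ext z
      have h4 := h3 1 z
      have h5 := hd 1 z
      rw [h5] at h4
      have h6 : (χ : G → ℂ) 1 ≠ 0 := isIrr_apply_one_ne_zero χ.2
      exact (mul_left_cancel₀ h6 h4).symm
  have h2 : ∑ χ : IrrCharacter G, (∑ z : Z, conj (c z : ℂ) * (χ : G → ℂ) (w * z)) * conj ((χ : G → ℂ) w) =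
      Nat.card (centralizer ({w} : Set G)) := by
    have h3 : ∀ z : Z, ∑ χ : IrrCharacter G, (χ : G → ℂ) (w * z) * conj ((χ : G → ℂ) w) =
        if z = 1 then (Nat.card (centralizer ({w} : Set G)) : ℂ) else 0 := by
      intro z
      rw [S0145.sum_irr_mul_conj]
      by_cases hz : z = 1
      · subst hz
        rw [if_pos rfl, OneMemClass.coe_one, mul_one, if_pos (IsConj.refl w)]
      · rw [if_neg hz, if_neg]
        intro h4
        exact hz (eq_one_of_conj hZ hw z h4.symm)
    calc ∑ χ : IrrCharacter G, (∑ z : Z, conj (c z : ℂ) * (χ : G → ℂ) (w * z)) * conj ((χ : G → ℂ) w)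
        = ∑ z : Z, conj (c z : ℂ) * ∑ χ : IrrCharacter G, (χ : G → ℂ) (w * z) * conj ((χ : G → ℂ) w) := by
          simp only [Finset.sum_mul, Finset.mul_sum]
          rw [Finset.sum_comm]
          refine Finset.sum_congr rfl fun z _ => Finset.sum_congr rfl fun χ _ => ?_
          ring
      _ = _ := by
          simp only [h3]
          rw [Finset.sum_eq_single (1 : Z)]
          · rw [if_pos rfl, map_one, Units.val_one, map_one, one_mul]
          · intro z _ hz
            rw [if_neg hz, mul_zero]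
          · intro h; exact absurd (mem_univ _) h
  have h3 : ((Nat.card Z : ℝ) : ℂ) * ((∑ χ ∈ univ.filter (fun χ : IrrCharacter G => Lies Z c (χ : G → ℂ)),
      ‖(χ : G → ℂ) w‖ ^ 2 : ℝ) : ℂ) = ((Nat.card (centralizer ({w} : Set G)) : ℝ) : ℂ) := by
    push_cast
    rw [← h2, Finset.mul_sum, Finset.sum_filter]
    refine Finset.sum_congr rfl fun χ _ => ?_
    rw [h1 χ]
    split_ifs
    · rw [mul_assoc, Complex.mul_conj']
    · rw [zero_mul]
  exact_mod_cast h3

/-- **Zeros over a central character.**  If `|C_G(w)| < |Z| * #{χ over c}`, then some `χ` over `c` vanishes at `w`. -/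
theorem exists_zero_over {Z : Subgroup G} (hZ : Z ≤ center G) (c : Z →* ℂˣ) {w : G}
    (hw : (orderOf w).Coprime (Nat.card Z))
    (h : Nat.card (centralizer ({w} : Set G)) < Nat.card Z * Nat.card {χ : IrrCharacter G // Lies Z c (χ : G → ℂ)}) :
    ∃ χ : IrrCharacter G, Lies Z c (χ : G → ℂ) ∧ (χ : G → ℂ) w = 0 := by
  classical
  by_contra hcon
  push Not at hcon
  have := Fintype.ofFinite G
  have := finite_irr (G := G)
  have := Fintype.ofFinite (IrrCharacter G)
  set T : Finset (IrrCharacter G) := univ.filter fun χ : IrrCharacter G => Lies Z c (χ : G → ℂ) with hT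
  have hTc : Nat.card {χ : IrrCharacter G // Lies Z c (χ : G → ℂ)} = T.card := by
    rw [Nat.card_eq_fintype_card, Fintype.card_subtype]
  set X : Finset G := Finset.univ.filter fun g => ∃ m : ℕ, m.Coprime (Nat.card G) ∧ w ^ m = g with hX
  have hwX : w ∈ X := by
    rw [hX, Finset.mem_filter]
    exact ⟨Finset.mem_univ _, 1, Nat.coprime_one_left _, pow_one w⟩
  have hXpos : 0 < X.card := Finset.card_pos.2 ⟨w, hwX⟩
  have hclosed : ∀ g ∈ X, ∀ m : ℕ, m.Coprime (Nat.card G) → g ^ m ∈ X := by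
    intro g hg m hm
    rw [hX, Finset.mem_filter] at hg ⊢
    obtain ⟨-, k, hk, rfl⟩ := hg
    exact ⟨Finset.mem_univ _, k * m, Nat.Coprime.mul_left hk hm, by rw [pow_mul]⟩
  have hcent : ∀ g ∈ X, Nat.card (centralizer ({g} : Set G)) = Nat.card (centralizer ({w} : Set G)) := by
    intro g hg
    rw [hX, Finset.mem_filter] at hg
    obtain ⟨-, k, hk, rfl⟩ := hg
    have hk' : k.Coprime (orderOf w) := hk.coprime_dvd_right (_root_.orderOf_dvd_natCard w)
    have h2 : centralizer ({w ^ k} : Set G) = centralizer ({w} : Set G) := by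
      ext x
      rw [mem_centralizer_singleton_iff, mem_centralizer_singleton_iff]
      constructor
      · intro hx
        have h1 : w ∈ zpowers (w ^ k) := by
          rw [mem_zpowers_pow_iff]
          exact hk'
        rw [← mem_powers_iff_mem_zpowers] at h1
        obtain ⟨l, hl⟩ := h1
        have h3 : Commute x ((w ^ k) ^ l) := Commute.pow_right (show Commute x (w ^ k) from hx) l
        have h4 : (w ^ k) ^ l = w := hl
        rw [h4] at h3
        exact h3
      · intro hx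
        exact Commute.pow_right (show Commute x w from hx) k
    rw [h2]
  have hord : ∀ g ∈ X, (orderOf g).Coprime (Nat.card Z) := by
    intro g hg
    rw [hX, Finset.mem_filter] at hg
    obtain ⟨-, k, hk, rfl⟩ := hg
    exact hw.coprime_dvd_left (orderOf_pow_dvd k)
  have key : ∀ χ ∈ T, (X.card : ℝ) ≤ ∑ g ∈ X, ‖(χ : G → ℂ) g‖ ^ 2 := by
    intro χ hχ
    have h1 := Cfsg.Agent.OddOrderCharacters.PF13.SumBound.card_le_sum_sq ({()} : Finset Unit)
      (fun _ => (χ : G → ℂ)) (fun _ _ => isGeneralizedCharacter_def.2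
        ⟨_, 0, isIrr_isCharacter χ.2, isCharacter_zero, by rw [sub_zero]⟩) X hclosed (fun g hg => by
          refine ⟨(), Finset.mem_singleton_self _, ?_⟩
          have h2 := hcon χ (mem_filter.1 hχ).2
          rw [hX, Finset.mem_filter] at hg
          obtain ⟨-, k, hk, rfl⟩ := hg
          have hk' : k.Coprime (orderOf w) := hk.coprime_dvd_right (_root_.orderOf_dvd_natCard w)
          intro h0
          exact h2 ((H710.VanCount.zero_pow_iff χ hk').1 h0))
    simpa using h1
  have h1 : (Nat.card Z : ℝ) * ((T.card : ℝ) * X.card) ≤ X.card * Nat.card (centralizer ({w} : Set G)) := by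
    calc (Nat.card Z : ℝ) * ((T.card : ℝ) * X.card) = Nat.card Z * ∑ _χ ∈ T, (X.card : ℝ) := by
          rw [Finset.sum_const, nsmul_eq_mul]
      _ ≤ Nat.card Z * ∑ χ ∈ T, ∑ g ∈ X, ‖(χ : G → ℂ) g‖ ^ 2 :=
          mul_le_mul_of_nonneg_left (Finset.sum_le_sum key) (Nat.cast_nonneg _)
      _ = ∑ g ∈ X, (Nat.card Z : ℝ) * ∑ χ ∈ T, ‖(χ : G → ℂ) g‖ ^ 2 := by
          rw [Finset.sum_comm, Finset.mul_sum]
      _ = ∑ g ∈ X, (Nat.card (centralizer ({w} : Set G)) : ℝ) := by
          refine Finset.sum_congr rfl fun g hg => ?_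
          rw [← hcent g hg, ← sum_norm_sq_over hZ c (hord g hg)]
      _ = _ := by rw [Finset.sum_const, nsmul_eq_mul]
  have h2 : Nat.card Z * T.card ≤ Nat.card (centralizer ({w} : Set G)) := by
    have h3 : ((Nat.card Z * T.card * X.card : ℕ) : ℝ) ≤ ((Nat.card (centralizer ({w} : Set G)) * X.card : ℕ) : ℝ) := by
      push_cast
      linarith
    exact Nat.le_of_mul_le_mul_right (by exact_mod_cast h3) hXpos
  rw [hTc] at h
  omega

/-- **The form with the quotient `S = G ⧸ Z`**: more classes of elements of order prime to `|Z|` than `|C_S(y)|`, where `y`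
is a `p`-element: some character over `c` has degree divisible by `p`. -/
theorem exists_dvd_quot {p : ℕ} [Fact p.Prime] {Z : Subgroup G} [Z.Normal] (hZ : Z ≤ center G) (hZp : ¬ p ∣ Nat.card Z)
    {y : G ⧸ Z} {n : ℕ} (hy : orderOf y = p ^ n) (c : Z →* ℂˣ) (F : Finset (ConjClasses (G ⧸ Z)))
    (hF : ∀ C ∈ F, ∃ g : G ⧸ Z, ConjClasses.mk g = C ∧ (orderOf g).Coprime (Nat.card Z))
    (hlt : Nat.card (centralizer ({y} : Set (G ⧸ Z))) < F.card) :
    ∃ χ : IrrCharacter G, Lies Z c (χ : G → ℂ) ∧ p ∣ charDegree (χ : G → ℂ) := by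
  classical
  have hp : p.Prime := Fact.out
  have hco : (p ^ n).Coprime (Nat.card Z) := Nat.Coprime.pow_left n ((hp.coprime_iff_not_dvd).2 hZp)
  -- the lift
  obtain ⟨u, rfl, hu⟩ : ∃ u : G, (u : G ⧸ Z) = y ∧ u ^ (p ^ n) = 1 := by
    obtain ⟨g, rfl⟩ := QuotientGroup.mk_surjective y
    obtain ⟨a, ha⟩ := (Nat.modEq_and_modEq_iff_modEq_mul hco).2 rfl |> fun _ : (0 : ℕ) ≡ 0 [MOD p ^ n] ∧ _ =>
      (⟨Nat.chineseRemainder hco 1 0, (Nat.chineseRemainder hco 1 0).2⟩ : ∃ a, a ≡ 1 [MOD p ^ n] ∧ a ≡ 0 [MOD Nat.card Z])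
    refine ⟨g ^ a, ?_, ?_⟩
    · rw [QuotientGroup.mk_pow]
      have h1 : (g : G ⧸ Z) ^ a = (g : G ⧸ Z) ^ 1 := pow_eq_pow_iff_modEq.2 (by rw [hy]; exact ha.1)
      rw [h1, pow_one]
    · have h1 : g ^ (p ^ n) ∈ Z := by
        rw [← QuotientGroup.eq_one_iff, QuotientGroup.mk_pow, ← hy]
        exact pow_orderOf_eq_one _
      have h2 : (g ^ (p ^ n)) ^ Nat.card Z = 1 := by
        have h3 := pow_card_eq_one' (G := Z) (x := ⟨g ^ (p ^ n), h1⟩)
        exact congrArg Subtype.val h3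
      obtain ⟨b, hb⟩ := (Nat.modEq_zero_iff_dvd).1 ha.2
      calc (g ^ a) ^ (p ^ n) = ((g ^ (p ^ n)) ^ Nat.card Z) ^ b := by
            rw [hb, ← pow_mul, ← pow_mul, ← pow_mul]; ring_nf
        _ = 1 := by rw [h2, one_pow]
  have hou : orderOf u ∣ p ^ n := orderOf_dvd_of_pow_eq_one hu
  have hw : (orderOf u).Coprime (Nat.card Z) := hco.coprime_dvd_left hou
  -- the centralizer
  have hcent : centralizer ({u} : Set G) =
      (centralizer ({(u : G ⧸ Z)} : Set (G ⧸ Z))).comap (QuotientGroup.mk' Z) := by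
    ext x
    rw [mem_centralizer_singleton_iff, mem_comap, mem_centralizer_singleton_iff]
    constructor
    · intro h
      have := congrArg (QuotientGroup.mk' Z) h
      simpa using this
    · intro h
      have h2 : (x : G ⧸ Z) * u = u * x := h
      have h3 : u⁻¹ * (x * u * x⁻¹) ∈ Z := by
        rw [← QuotientGroup.eq_one_iff, QuotientGroup.mk_mul, QuotientGroup.mk_inv, QuotientGroup.mk_mul,
          QuotientGroup.mk_mul, QuotientGroup.mk_inv, h2, mul_inv_cancel_right, inv_mul_cancel]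
      have h4 : IsConj u (u * ((⟨_, h3⟩ : Z) : G)) := by
        rw [isConj_iff]
        exact ⟨x, by simp⟩
      have h5 := congrArg Subtype.val (eq_one_of_conj hZ hw _ h4)
      have h6 : u⁻¹ * (x * u * x⁻¹) = 1 := h5
      rw [inv_mul_eq_one] at h6
      rw [eq_comm, mul_inv_eq_iff_eq_mul] at h6
      exact h6
  obtain ⟨χ, hl, h0⟩ := exists_zero_over hZ c hw (by
    rw [hcent, card_comap, mul_comm]
    refine Nat.mul_lt_mul_of_pos_left (lt_of_lt_of_le hlt (card_good_ge hZ c F hF)) Nat.card_pos)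
  refine ⟨χ, hl, ?_⟩
  obtain ⟨M, hM⟩ := Blocks.ExistsModular.exists_isPModular hp
  have hMp : M.IsPrime := hM.2.1.isPrime
  have h1 := H849.OZ.av_sub_mem (χ := χ) hp hMp hM.2.2 u (j := 0) (n := n) (by rw [pow_zero, one_pow, hu])
  have h3 : H732.VZ.av χ u = 0 := Subtype.ext h0
  rw [h3, pow_zero, zero_sub, Ideal.neg_mem_iff] at h1
  have h4 : H732.VZ.av χ 1 = ((charDegree (χ : G → ℂ) : ℤ) : AlgInt) := by
    apply Subtype.ext
    rw [H732.VZ.av_coe, ← H686.CharKit.charDegree_irr χ]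
    simp
  rw [h4, H732.VZ.int_mem_iff hp hMp hM.2.2] at h1
  exact_mod_cast h1

end Cfsg.Agent.H849.RIM
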