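import Cfsg.Agent.SmallSimple.TheoremCCor
import Cfsg.Agent.H622.Over

/-!
# Characters of full defect over a central character, `p ∥ |G|` (helper849, for S4816)

`P` Sylow of order `p`, `C(P) = P × K`, `Z ≤ Z(G)` a `p'`-group, `c : Z →* ℂˣ`, `w = |N(P) : C(P)|`.

* `card_mul_le` : `w * #{χ over c, not vanishing on the p-singular elements} ≤ ∑_{θ ∈ Irr(K | c)} (e_θ ^ 2 + (p - 1))`;
* `card_good_ge` : a class of `G ⧸ Z` of elements of order prime to `|Z|` is good;
* `exists_dz` : if there are enough such classes, then there is a character of defect zero over `c`.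
-/

set_option autoImplicit false
set_option linter.unusedSectionVars false

namespace Cfsg.Agent.H849.RIM

open Cfsg Subgroup Finset
open Cfsg.Agent.Characters.Core
open Cfsg.Agent.SmallSimple.ThetaSetup Cfsg.Agent.SmallSimple.ThetaOrtho Cfsg.Agent.SmallSimple.ThetaCount
open Cfsg.Agent.SmallSimple.TheoremC Cfsg.Agent.SmallSimple.TheoremCCor
open Cfsg.Agent.SmallSimple.SingularCount
open Cfsg.Agent.H622.Over
open scoped ComplexConjugate

universe u

variable {G : Type u} [Group G] [Finite G] {p : ℕ} [Fact p.Prime] {P : Sylow p G} {K : Subgroup G}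

/-- `θ : K → ℂ` lies over the character `c` of the central subgroup `Z` (contained in `K`). -/
def LiesK (Z : Subgroup G) (c : Z →* ℂˣ) (K : Subgroup G) (θ : K → ℂ) : Prop :=
  ∀ (y y' : K) (z : Z), (y' : G) = y * z → θ y' = θ y * (c z : ℂ)

/-- The constituents of `K` below a character over `c` are over `c`. -/
theorem liesK_of_over {Z : Subgroup G} (hZ : Z ≤ center G) (hZK : Z ≤ K) {c : Z →* ℂˣ} {χ : IrrCharacter G}
    (hχ : Lies Z c (χ : G → ℂ)) {θ : K → ℂ} (hθ : IsIrrCharacter K θ) (ho : χ ∈ Over P θ) : LiesK Z c K θ := by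
  classical
  have := Fintype.ofFinite K
  obtain ⟨x, -, hx⟩ := ho
  have hZ' : Z.subgroupOf K ≤ center K := by
    intro z hz
    rw [mem_center_iff]
    intro y
    exact Subtype.ext (mem_center_iff.1 (hZ (mem_subgroupOf.1 hz)) y)
  obtain ⟨d, hd⟩ := exists_hom hZ' hθ
  intro y y' z hy
  have hzK : (z : G) ∈ K := hZK z.2
  set z' : Z.subgroupOf K := ⟨⟨z, hzK⟩, mem_subgroupOf.2 z.2⟩ with hz'
  have hy' : y' = y * z' := Subtype.ext hy
  have h1 : θ y' = θ y * (d z' : ℂ) := by rw [hy']; exact hd y z'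
  have h2 : (c z : ℂ) * conj (d z' : ℂ) = 1 := by
    have h3 : part θ (χ : G → ℂ) x = (c z : ℂ) * conj (d z' : ℂ) * part θ (χ : G → ℂ) x := by
      have hs := Equiv.sum_comp (Equiv.mulRight (z' : K)) (fun y : K => (χ : G → ℂ) (x * y) * conj (θ y))
      have he : (∑ y : K, (χ : G → ℂ) (x * (Equiv.mulRight (z' : K) y : K)) * conj (θ (Equiv.mulRight (z' : K) y))) =
          (c z : ℂ) * conj (d z' : ℂ) * ∑ y : K, (χ : G → ℂ) (x * y) * conj (θ y) := by
        rw [Finset.mul_sum]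
        refine Finset.sum_congr rfl fun y _ => ?_
        have h4 : (χ : G → ℂ) (x * ((y : G) * z)) = (χ : G → ℂ) (x * y) * (c z : ℂ) := by
          rw [← mul_assoc]
          exact hχ (x * y) z
        have h5 : θ (y * z') = θ y * (d z' : ℂ) := hd y z'
        simp only [Equiv.coe_mulRight, Subgroup.coe_mul]
        rw [h5, map_mul, hz', h4]
        ring
      rw [part_eq]
      conv_lhs => rw [← hs, he]
      ring
    have h4 : (1 - (c z : ℂ) * conj (d z' : ℂ)) * part θ (χ : G → ℂ) x = 0 := by linear_combination h3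
    rcases mul_eq_zero.1 h4 with h5 | h5
    · linear_combination -h5
    · exact absurd h5 hx
  have h3 : (d z' : ℂ) = c z := by
    have h4 : (d z' : ℂ) * conj (d z' : ℂ) = 1 := hom_mul_conj d z'
    calc (d z' : ℂ) = (d z' : ℂ) * ((c z : ℂ) * conj (d z' : ℂ)) := by rw [h2, mul_one]
      _ = c z * ((d z' : ℂ) * conj (d z' : ℂ)) := by ring
      _ = c z := by rw [h4, mul_one]
  rw [h1, h3]

/-- **The number of characters of full defect over `c`.** -/
theorem card_mul_le (hK : IsComp p (P : Subgroup G) K) (hP : Nat.card P = p) {Z : Subgroup G} (hZ : Z ≤ center G)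
    (hZK : Z ≤ K) {c : Z →* ℂˣ} {w : ℕ}
    (hw : (centralizer ((P : Subgroup G) : Set G)).relIndex (normalizer ((P : Subgroup G) : Set G)) = w)
    (A : Finset (IrrCharacter K)) (hA : ∀ θ : IrrCharacter K, LiesK Z c K (θ : K → ℂ) → θ ∈ A)
    (T : Finset (IrrCharacter G)) (hT : ∀ χ ∈ T, Lies Z c (χ : G → ℂ) ∧ χ ∈ nonzeroOn p G) :
    w * T.card ≤ ∑ θ ∈ A, (Nat.card (stabAct hK (θ : K → ℂ)) ^ 2 + (p - 1)) := by
  classical
  have := finite_irr (G := G)
  have := Fintype.ofFinite (IrrCharacter G)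
  have hpp : p.Prime := Fact.out
  -- the terms on the right
  have hR : ∀ θ : IrrCharacter K, ∑ χ ∈ T, (if χ ∈ Over P (θ : K → ℂ) then Nat.card (stabAct hK (θ : K → ℂ)) else 0)
      ≤ Nat.card (stabAct hK (θ : K → ℂ)) ^ 2 + (p - 1) := by
    intro θ
    set e := Nat.card (stabAct hK (θ : K → ℂ)) with he
    have hed : e ∣ p - 1 := by
      have h1 : Nat.card (MulAut P) = p - 1 := by
        have : IsCyclic (P : Subgroup G) := isCyclic_of_prime_card hP
        rw [IsCyclic.card_mulAut, hP, Nat.totient_prime hpp]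
      rw [← h1]
      exact card_subgroup_dvd_card _
    obtain ⟨t, ht⟩ := hed
    have h1 := card_Over hK hP θ.2 he.symm ht.symm
    have h2 : (T.filter fun χ => χ ∈ Over P (θ : K → ℂ)).card ≤ e + t := by
      rw [← h1, Nat.card_coe_set_eq, ← Set.ncard_coe_finset]
      exact Set.ncard_le_ncard (fun χ hχ => (mem_filter.1 (mem_coe.1 hχ)).2) (Set.toFinite _)
    rw [← Finset.sum_filter, Finset.sum_const, smul_eq_mul, ht]
    calc (T.filter fun χ => χ ∈ Over P (θ : K → ℂ)).card * e ≤ (e + t) * e := Nat.mul_le_mul_right _ h2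
      _ = e ^ 2 + e * t := by ring
  calc w * T.card = ∑ χ ∈ T, w := by rw [Finset.sum_const, smul_eq_mul, mul_comm]
    _ ≤ ∑ χ ∈ T, ∑ θ ∈ A, (if χ ∈ Over P (θ : K → ℂ) then Nat.card (stabAct hK (θ : K → ℂ)) else 0) := by
        refine Finset.sum_le_sum fun χ hχ => ?_
        obtain ⟨hl, hn⟩ := hT χ hχ
        obtain ⟨θ, hθ⟩ := exists_mem_Over hK hP hn
        have horb : ∀ θ' ∈ orb P K (θ : K → ℂ), θ' ∈ A ∧ χ ∈ Over P (θ' : K → ℂ) ∧
            Nat.card (stabAct hK (θ' : K → ℂ)) = Nat.card (stabAct hK (θ : K → ℂ)) := by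
          intro θ' hθ'
          obtain ⟨n, hn, h⟩ := mem_orb.1 hθ'
          have h1 : χ ∈ Over P (θ' : K → ℂ) := by rw [← h, Over_tw hK hn]; exact hθ
          refine ⟨hA θ' (liesK_of_over hZ hZK hl θ'.2 h1), h1, ?_⟩
          have h2 : (orb P K (θ' : K → ℂ)) = orb P K (θ : K → ℂ) := by
            ext ξ
            rw [mem_orb, mem_orb]
            constructor
            · rintro ⟨m, hm, h3⟩
              exact ⟨n * m, mul_mem hn hm, by rw [tw_mul hK _ hn hm, h, h3]⟩
            · rintro ⟨m, hm, h3⟩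
              refine ⟨n⁻¹ * m, mul_mem (inv_mem hn) hm, ?_⟩
              rw [← h, ← tw_mul hK _ hn (mul_mem (inv_mem hn) hm), mul_inv_cancel_left, h3]
          have h3 := card_stabAct_mul_card_orb hK hP θ.2
          have h4 := card_stabAct_mul_card_orb hK hP θ'.2
          rw [h2, ← h3] at h4
          have h5 : 0 < (orb P K (θ : K → ℂ)).card := Finset.card_pos.2 ⟨θ, mem_orb.2 ⟨1, one_mem _, tw_one _⟩⟩
          exact Nat.eq_of_mul_eq_mul_right h5 h4
        calc w = ∑ θ' ∈ orb P K (θ : K → ℂ), Nat.card (stabAct hK (θ : K → ℂ)) := by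
              rw [Finset.sum_const, smul_eq_mul, ← hw, ← card_stabAct_mul_card_orb hK hP θ.2, mul_comm]
          _ = ∑ θ' ∈ orb P K (θ : K → ℂ),
                (if χ ∈ Over P (θ' : K → ℂ) then Nat.card (stabAct hK (θ' : K → ℂ)) else 0) := by
              refine Finset.sum_congr rfl fun θ' hθ' => ?_
              rw [if_pos (horb θ' hθ').2.1, (horb θ' hθ').2.2]
          _ ≤ _ := Finset.sum_le_sum_of_subset fun θ' hθ' => (horb θ' hθ').1
    _ = ∑ θ ∈ A, ∑ χ ∈ T, (if χ ∈ Over P (θ : K → ℂ) then Nat.card (stabAct hK (θ : K → ℂ)) else 0) :=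
        Finset.sum_comm
    _ ≤ _ := Finset.sum_le_sum fun θ _ => hR θ

/-! ### Good classes -/

section good

variable {G : Type u} [Group G] [Finite G]

/-- An element of order prime to `|Z|` modulo the central subgroup `Z` is good. -/
theorem good_of_coprime {Z : Subgroup G} [Z.Normal] (hZ : Z ≤ center G) (c : Z →* ℂˣ) {g : G} {n : ℕ}
    (hn : (g : G ⧸ Z) ^ n = 1) (hco : n.Coprime (Nat.card Z)) : Good Z c g := by
  intro x hx
  have h1 : g ^ n ∈ Z := by
    rw [← QuotientGroup.eq_one_iff, QuotientGroup.mk_pow]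
    exact hn
  set z : G := x⁻¹ * g⁻¹ * x * g with hz
  have hzc : ∀ y : G, y * z = z * y := fun y => mem_center_iff.1 (hZ hx) y
  have h2 : x⁻¹ * g * x = g * z⁻¹ := by rw [hz]; group
  have h3 : (x⁻¹ * g * x) ^ n = x⁻¹ * g ^ n * x := by
    have := conj_pow (i := n) (a := x⁻¹) (b := g)
    rwa [inv_inv] at this
  have h4 : x⁻¹ * g ^ n * x = g ^ n := by
    have := mem_center_iff.1 (hZ h1) x
    rw [mul_assoc, ← this, inv_mul_cancel_left]
  have h5 : (g * z⁻¹) ^ n = g ^ n * z⁻¹ ^ n := by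
    refine Commute.mul_pow ?_ n
    have := hzc g
    show g * z⁻¹ = z⁻¹ * g
    rw [eq_inv_mul_iff_mul_eq, ← mul_assoc, ← this, mul_inv_cancel_right]
  rw [← h2, h3, h4] at h5
  have h6 : z⁻¹ ^ n = 1 := by
    have h7 : g ^ n * 1 = g ^ n * z⁻¹ ^ n := by rw [mul_one]; exact h5
    exact (mul_left_cancel h7).symm
  have h7 : z ^ n = 1 := by rwa [inv_pow, inv_eq_one] at h6
  have h8 : (⟨z, hx⟩ : Z) = 1 := by
    have h9 : orderOf (⟨z, hx⟩ : Z) ∣ n := orderOf_dvd_of_pow_eq_one (Subtype.ext h7)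
    have h10 : orderOf (⟨z, hx⟩ : Z) ∣ Nat.card Z := _root_.orderOf_dvd_natCard _
    have h11 := Nat.eq_one_of_dvd_coprimes hco h9 h10
    exact orderOf_eq_one_iff.1 h11
  rw [h8, map_one]

/-- **A lower bound for the number of characters over `c`**: the classes of elements of order prime to `|Z|`. -/
theorem card_good_ge {Z : Subgroup G} [Z.Normal] (hZ : Z ≤ center G) (c : Z →* ℂˣ) (F : Finset (ConjClasses (G ⧸ Z)))
    (hF : ∀ C ∈ F, ∃ g : G ⧸ Z, ConjClasses.mk g = C ∧ (orderOf g).Coprime (Nat.card Z)) :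
    F.card ≤ Nat.card {χ : IrrCharacter G // Lies Z c (χ : G → ℂ)} := by
  classical
  rw [card_over hZ c, card_good hZ c]
  have h1 : Set.Finite {C : ConjClasses (G ⧸ Z) | ∃ g : G, ConjClasses.mk (g : G ⧸ Z) = C ∧ Good Z c g} := by
    have : Finite (ConjClasses (G ⧸ Z)) := Finite.of_surjective _ (ConjClasses.mk_surjective (α := G ⧸ Z))
    exact Set.toFinite _
  have h2 : (F : Set (ConjClasses (G ⧸ Z))) ⊆
      {C : ConjClasses (G ⧸ Z) | ∃ g : G, ConjClasses.mk (g : G ⧸ Z) = C ∧ Good Z c g} := by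
    intro C hC
    obtain ⟨g, hg, ho⟩ := hF C (mem_coe.1 hC)
    obtain ⟨g', rfl⟩ := QuotientGroup.mk_surjective g
    exact ⟨g', hg, good_of_coprime hZ c (pow_orderOf_eq_one _) ho⟩
  have h3 := Set.ncard_le_ncard h2 h1
  rw [Set.ncard_coe_finset] at h3
  exact h3

end good

/-- A character vanishing on the `p`-singular elements, `p ∣ |G|`, has degree divisible by `p`. -/
theorem exists_dz (hK : IsComp p (P : Subgroup G) K) (hP : Nat.card P = p) {Z : Subgroup G} [Z.Normal]
    (hZ : Z ≤ center G) (hZK : Z ≤ K) (c : Z →* ℂˣ) {w : ℕ}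
    (hw : (centralizer ((P : Subgroup G) : Set G)).relIndex (normalizer ((P : Subgroup G) : Set G)) = w)
    (A : Finset (IrrCharacter K)) (hA : ∀ θ : IrrCharacter K, LiesK Z c K (θ : K → ℂ) → θ ∈ A)
    (F : Finset (ConjClasses (G ⧸ Z)))
    (hF : ∀ C ∈ F, ∃ g : G ⧸ Z, ConjClasses.mk g = C ∧ (orderOf g).Coprime (Nat.card Z))
    (hlt : ∑ θ ∈ A, (Nat.card (stabAct hK (θ : K → ℂ)) ^ 2 + (p - 1)) < w * F.card) :
    ∃ χ : IrrCharacter G, Lies Z c (χ : G → ℂ) ∧ ∀ g : G, p ∣ orderOf g → (χ : G → ℂ) g = 0 := by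
  classical
  by_contra hcon
  push Not at hcon
  have := finite_irr (G := G)
  have := Fintype.ofFinite (IrrCharacter G)
  have h1 := card_mul_le hK hP hZ hZK hw A hA (Finset.univ.filter fun χ : IrrCharacter G => Lies Z c (χ : G → ℂ))
    (fun χ hχ => ⟨(mem_filter.1 hχ).2, by
      obtain ⟨g, hg, hne⟩ := hcon χ (mem_filter.1 hχ).2
      exact ⟨g, hg, hne⟩⟩)
  have h2 := card_good_ge hZ c F hF
  rw [Nat.card_eq_fintype_card, Fintype.card_subtype] at h2
  have h3 := Nat.mul_le_mul_left w h2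
  omega

/-! ### The form with the quotient `S = G ⧸ Z` -/

section quot

variable {G : Type u} [Group G] [Finite G] {p : ℕ} [Fact p.Prime]

/-- The number of characters of `K` over `c` is at most `|K : Z|`. -/
theorem card_liesK_le {Z : Subgroup G} (hZ : Z ≤ center G) {K : Subgroup G} (hZK : Z ≤ K) (c : Z →* ℂˣ) {k : ℕ}
    (hk : Nat.card K = k * Nat.card Z) (A : Finset (IrrCharacter K))
    (hA : ∀ θ ∈ A, LiesK Z c K (θ : K → ℂ)) : A.card ≤ k := by
  classical
  have hZ' : Z.subgroupOf K ≤ center K := by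
    intro z hz
    rw [mem_center_iff]
    intro y
    exact Subtype.ext (mem_center_iff.1 (hZ (mem_subgroupOf.1 hz)) y)
  have hnorm : (Z.subgroupOf K).Normal := by
    refine ⟨fun z hz y => ?_⟩
    have h1 := mem_center_iff.1 (hZ' hz) y
    rw [h1, mul_inv_cancel_right]
    exact hz
  let c' : Z.subgroupOf K →* ℂˣ := c.comp (subgroupOfEquivOfLe hZK).toMonoidHom
  have h1 := card_over hZ' c'
  rw [card_good hZ' c'] at h1
  have hfin : Finite (IrrCharacter K) := finite_irr
  have := Fintype.ofFinite (IrrCharacter K)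
  have h2 : A.card ≤ Nat.card {χ : IrrCharacter K // Lies (Z.subgroupOf K) c' (χ : K → ℂ)} := by
    have h3 : (A : Set (IrrCharacter K)) ⊆ {χ : IrrCharacter K | Lies (Z.subgroupOf K) c' (χ : K → ℂ)} := by
      intro θ hθ y z
      have h4 := hA θ (mem_coe.1 hθ) y (y * z) ⟨((z : K) : G), mem_subgroupOf.1 z.2⟩ rfl
      exact h4
    have h4 := Set.ncard_le_ncard h3 (Set.toFinite _)
    rw [Set.ncard_coe_finset] at h4
    exact h4
  rw [h1] at h2
  refine h2.trans ?_
  have hfc : Finite (ConjClasses (K ⧸ Z.subgroupOf K)) :=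
    Finite.of_surjective _ (ConjClasses.mk_surjective (α := K ⧸ Z.subgroupOf K))
  have h5 : Nat.card {C : ConjClasses (K ⧸ Z.subgroupOf K) // ∃ g : K,
      ConjClasses.mk (g : K ⧸ Z.subgroupOf K) = C ∧ Good (Z.subgroupOf K) c' g} ≤
      Nat.card (ConjClasses (K ⧸ Z.subgroupOf K)) :=
    Nat.card_le_card_of_injective _ Subtype.val_injective
  have h6 : Nat.card (ConjClasses (K ⧸ Z.subgroupOf K)) ≤ Nat.card (K ⧸ Z.subgroupOf K) :=
    Nat.card_le_card_of_surjective _ (ConjClasses.mk_surjective (α := K ⧸ Z.subgroupOf K))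
  have h7 := card_eq_card_quotient_mul_card_subgroup (Z.subgroupOf K)
  rw [hk, Nat.card_congr (subgroupOfEquivOfLe hZK).toEquiv] at h7
  have h8 : k = Nat.card (K ⧸ Z.subgroupOf K) := Nat.eq_of_mul_eq_mul_right Nat.card_pos h7
  omega

/-- A lift of order `p`. -/
theorem exists_lift {Z : Subgroup G} [Z.Normal] (hZp : ¬ p ∣ Nat.card Z) {y : G ⧸ Z} (hy : orderOf y = p) :
    ∃ u : G, (u : G ⧸ Z) = y ∧ orderOf u = p := by
  have hp : p.Prime := Fact.out
  obtain ⟨g, rfl⟩ := QuotientGroup.mk_surjective y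
  have hco : (Nat.card Z).Coprime p := ((hp.coprime_iff_not_dvd).2 hZp).symm
  obtain ⟨a, -, ha⟩ := Nat.exists_mul_mod_eq_one_of_coprime hco hp.one_lt
  refine ⟨g ^ (Nat.card Z * a), ?_, ?_⟩
  · rw [QuotientGroup.mk_pow, ← pow_mod_orderOf, hy, ha, pow_one]
  · refine orderOf_eq_prime ?_ ?_
    · have h1 : g ^ p ∈ Z := by
        rw [← QuotientGroup.eq_one_iff, QuotientGroup.mk_pow, ← hy]
        exact pow_orderOf_eq_one _
      have h2 : (g ^ p) ^ Nat.card Z = 1 := by
        have h3 := pow_card_eq_one' (G := Z) (x := ⟨g ^ p, h1⟩)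
        exact congrArg Subtype.val h3
      calc (g ^ (Nat.card Z * a)) ^ p = ((g ^ p) ^ Nat.card Z) ^ a := by
            rw [← pow_mul, ← pow_mul, ← pow_mul]; ring_nf
        _ = 1 := by rw [h2, one_pow]
    · intro h1
      have h2 : ((g ^ (Nat.card Z * a) : G) : G ⧸ Z) = 1 := by rw [h1]; rfl
      rw [QuotientGroup.mk_pow, ← pow_mod_orderOf, hy, ha, pow_one] at h2
      rw [h2, orderOf_one] at hy
      exact hp.one_lt.ne hy

/-- Elements which commute modulo `Z` with an element of order `p` commute with it. -/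
theorem comm_of_comm {Z : Subgroup G} [Z.Normal] (hZ : Z ≤ center G) (hZp : ¬ p ∣ Nat.card Z) {u : G}
    (hu : orderOf u = p) {x : G} {j : ℕ} (h : (x : G ⧸ Z) * u * (x : G ⧸ Z)⁻¹ = (u : G ⧸ Z) ^ j) :
    x * u * x⁻¹ = u ^ j := by
  have hp : p.Prime := Fact.out
  have h1 : (u ^ j)⁻¹ * (x * u * x⁻¹) ∈ Z := by
    rw [← QuotientGroup.eq_one_iff, QuotientGroup.mk_mul, QuotientGroup.mk_inv, QuotientGroup.mk_pow,
      QuotientGroup.mk_mul, QuotientGroup.mk_mul, QuotientGroup.mk_inv, h, inv_mul_cancel]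
  set z : G := (u ^ j)⁻¹ * (x * u * x⁻¹) with hz
  have h2 : x * u * x⁻¹ = u ^ j * z := by rw [hz]; group
  have hc : Commute (u ^ j) z := mem_center_iff.1 (hZ h1) _
  have h3 : z ^ p = 1 := by
    have h4 : (x * u * x⁻¹) ^ p = 1 := by rw [conj_pow, ← hu, pow_orderOf_eq_one, mul_one, mul_inv_cancel]
    have h5 : (u ^ j) ^ p = 1 := by rw [← pow_mul, mul_comm, pow_mul, ← hu, pow_orderOf_eq_one, one_pow]
    rw [h2, hc.mul_pow, h5, one_mul] at h4
    exact h4
  have h4 : z = 1 := by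
    have h5 : orderOf (⟨z, h1⟩ : Z) ∣ p := orderOf_dvd_of_pow_eq_one (Subtype.ext h3)
    have h6 : orderOf (⟨z, h1⟩ : Z) ∣ Nat.card Z := _root_.orderOf_dvd_natCard _
    have h7 := Nat.eq_one_of_dvd_coprimes ((hp.coprime_iff_not_dvd).2 hZp) h5 h6
    exact congrArg Subtype.val (orderOf_eq_one_iff.1 h7)
  rw [h2, h4, mul_one]

theorem card_comap {Z : Subgroup G} [Z.Normal] (H : Subgroup (G ⧸ Z)) :
    Nat.card (H.comap (QuotientGroup.mk' Z)) = Nat.card H * Nat.card Z := by
  have h1 := Subgroup.index_comap_of_surjective H (QuotientGroup.mk'_surjective Z)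
  have h2 := (H.comap (QuotientGroup.mk' Z)).card_mul_index
  have h3 := H.card_mul_index
  have h4 := card_eq_card_quotient_mul_card_subgroup Z
  rw [h1] at h2
  have h5 : 0 < H.index := Nat.pos_of_ne_zero index_ne_zero_of_finite
  apply Nat.eq_of_mul_eq_mul_right h5
  rw [h2, h4, ← h3]
  ring

/-- **Defect zero over a central character, `p ∥ |G|`.**  `S = G ⧸ Z`, `y ∈ S` of order `p`, `|C_S(y)| = p k`,
`|N_S(⟨y⟩)| = w p k`, and more than `k (w ^ 2 + p - 1) / w` classes of `S` of elements of order prime to `|Z|`. -/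
theorem exists_dz_quot {Z : Subgroup G} [Z.Normal] (hZ : Z ≤ center G) (hZp : ¬ p ∣ Nat.card Z)
    (hsq : ¬ p ^ 2 ∣ Nat.card (G ⧸ Z)) {y : G ⧸ Z} (hy : orderOf y = p) {k w : ℕ}
    (hC : Nat.card (centralizer ({y} : Set (G ⧸ Z))) = p * k)
    (hN : Nat.card (normalizer ((zpowers y : Subgroup (G ⧸ Z)) : Set (G ⧸ Z))) = w * (p * k)) (c : Z →* ℂˣ)
    (F : Finset (ConjClasses (G ⧸ Z)))
    (hF : ∀ C ∈ F, ∃ g : G ⧸ Z, ConjClasses.mk g = C ∧ (orderOf g).Coprime (Nat.card Z))
    (hlt : k * (w ^ 2 + (p - 1)) < w * F.card) :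
    ∃ χ : IrrCharacter G, Lies Z c (χ : G → ℂ) ∧ p ∣ charDegree (χ : G → ℂ) := by
  classical
  have hp : p.Prime := Fact.out
  have hfin : Finite (IrrCharacter G) := finite_irr
  obtain ⟨u, rfl, hu⟩ := exists_lift hZp hy
  -- the Sylow subgroup
  have hcG := card_eq_card_quotient_mul_card_subgroup Z
  have hG2 : ¬ p ^ 2 ∣ Nat.card G := by
    rw [hcG]
    intro h
    have hco : (p ^ 2).Coprime (Nat.card Z) := Nat.Coprime.pow_left 2 ((hp.coprime_iff_not_dvd).2 hZp)
    exact hsq (hco.dvd_of_dvd_mul_right h)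
  have hzp : IsPGroup p (zpowers u) := IsPGroup.of_card (n := 1) (by rw [Nat.card_zpowers, hu, pow_one])
  obtain ⟨P, hPle⟩ := hzp.exists_le_sylow
  have hP : Nat.card P = p := by
    obtain ⟨n, hn⟩ := (IsPGroup.iff_card).1 P.2
    have h1 : Nat.card P ∣ Nat.card G := card_subgroup_dvd_card _
    have h2 : n < 2 := by
      by_contra h3
      push Not at h3
      exact hG2 ((pow_dvd_pow p h3).trans (hn ▸ h1))
    have h3 : p ∣ Nat.card P := by
      have := card_dvd_of_le hPle
      rwa [Nat.card_zpowers, hu] at this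
    interval_cases n
    · rw [hn, pow_zero, Nat.dvd_one] at h3
      exact absurd h3 hp.one_lt.ne'
    · rw [hn, pow_one]
  have hPz : (P : Subgroup G) = zpowers u := by
    symm
    refine eq_of_le_of_card_ge hPle ?_
    rw [Nat.card_zpowers, hu]
    exact hP.le
  obtain ⟨K, hK⟩ := exists_isComp P hP
  have huP : u ∈ (P : Subgroup G) := hPle (mem_zpowers u)
  have hu1 : u ≠ 1 := by
    rintro rfl
    rw [orderOf_one] at hu
    exact hp.one_lt.ne hu
  have hCP : centralizer ((P : Subgroup G) : Set G) = centralizer ({u} : Set G) :=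
    (Blocks.CyclicOrtho.centralizer_eq P hP huP hu1).symm
  -- the centralizer
  have hcent : centralizer ((P : Subgroup G) : Set G) =
      (centralizer ({(u : G ⧸ Z)} : Set (G ⧸ Z))).comap (QuotientGroup.mk' Z) := by
    rw [hCP]
    ext x
    rw [mem_centralizer_singleton_iff, mem_comap, mem_centralizer_singleton_iff]
    constructor
    · intro h
      have := congrArg (QuotientGroup.mk' Z) h
      simpa using this
    · intro h
      have h1 : (x : G ⧸ Z) * u * (x : G ⧸ Z)⁻¹ = (u : G ⧸ Z) ^ 1 := by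
        have h2 : (x : G ⧸ Z) * u = u * x := h
        rw [h2, mul_inv_cancel_right, pow_one]
      have h2 := comm_of_comm hZ hZp hu h1
      rw [pow_one, mul_inv_eq_iff_eq_mul] at h2
      exact h2
  have hnorm : normalizer ((P : Subgroup G) : Set G) =
      (normalizer ((zpowers (u : G ⧸ Z) : Subgroup (G ⧸ Z)) : Set (G ⧸ Z))).comap (QuotientGroup.mk' Z) := by
    have hPm : (P : Subgroup G).map (QuotientGroup.mk' Z) = zpowers (u : G ⧸ Z) := by
      rw [hPz, MonoidHom.map_zpowers]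
      rfl
    apply le_antisymm
    · intro x hx
      rw [mem_comap, ← hPm]
      exact Subgroup.le_normalizer_map _ (mem_map_of_mem _ hx)
    · intro x hx
      rw [mem_comap] at hx
      have h1 : (x : G ⧸ Z) * u * (x : G ⧸ Z)⁻¹ ∈ zpowers (u : G ⧸ Z) :=
        (mem_normalizer_iff.1 hx (u : G ⧸ Z)).1 (mem_zpowers _)
      obtain ⟨j, hj⟩ := mem_powers_iff_mem_zpowers.2 h1
      have h2 := comm_of_comm hZ hZp hu (x := x) (j := j) hj.symm
      refine mem_normalizer_fintype fun n hn => ?_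
      have hn' : n ∈ zpowers u := by rw [← hPz]; exact hn
      obtain ⟨i, rfl⟩ := mem_powers_iff_mem_zpowers.2 hn'
      show x * u ^ i * x⁻¹ ∈ (P : Subgroup G)
      rw [← conj_pow, h2, hPz]
      exact pow_mem (pow_mem (mem_zpowers u) j) i
  have hcC : Nat.card (centralizer ((P : Subgroup G) : Set G)) = p * k * Nat.card Z := by
    rw [hcent, card_comap, hC]
  have hcN : Nat.card (normalizer ((P : Subgroup G) : Set G)) = w * (p * k) * Nat.card Z := by
    rw [hnorm, card_comap, hN]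
  have hcK : Nat.card K = k * Nat.card Z := by
    have h1 : Nat.card P * Nat.card K = Nat.card (centralizer ((P : Subgroup G) : Set G)) := by
      rw [← Nat.card_prod]
      exact Nat.card_congr (prodEquiv hK hP).toEquiv
    rw [hP, hcC, mul_assoc] at h1
    exact Nat.eq_of_mul_eq_mul_left hp.pos h1
  have hZK : Z ≤ K := by
    intro z hz
    rw [hK]
    refine ⟨?_, fun h => hZp ?_⟩
    · rw [mem_centralizer_iff]
      intro g _
      exact mem_center_iff.1 (hZ hz) g
    · have h1 := _root_.orderOf_dvd_natCard (⟨z, hz⟩ : Z)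
      rw [← orderOf_submonoid] at h1
      exact h.trans h1
  have hk0 : 0 < k := by
    rcases Nat.eq_zero_or_pos k with h | h
    · rw [h, zero_mul] at hcK
      exact absurd hcK Nat.card_pos.ne'
    · exact h
  have hw : (centralizer ((P : Subgroup G) : Set G)).relIndex (normalizer ((P : Subgroup G) : Set G)) = w := by
    have h1 : centralizer ((P : Subgroup G) : Set G) ≤ normalizer ((P : Subgroup G) : Set G) :=
      centralizer_le_normalizer _
    have h2 := Subgroup.card_mul_index ((centralizer ((P : Subgroup G) : Set G)).subgroupOf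
      (normalizer ((P : Subgroup G) : Set G)))
    rw [Nat.card_congr (subgroupOfEquivOfLe h1).toEquiv, hcC, hcN] at h2
    have h3 : 0 < p * k * Nat.card Z := Nat.mul_pos (Nat.mul_pos hp.pos hk0) Nat.card_pos
    rw [Subgroup.relIndex]
    apply Nat.eq_of_mul_eq_mul_left h3
    rw [h2]
    ring
  have hfK : Finite (IrrCharacter K) := finite_irr
  have := Fintype.ofFinite (IrrCharacter K)
  set A : Finset (IrrCharacter K) := univ.filter fun θ => LiesK Z c K (θ : K → ℂ) with hA
  have hAk : A.card ≤ k := card_liesK_le hZ hZK c hcK A fun θ hθ => (mem_filter.1 hθ).2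
  have hsum : ∑ θ ∈ A, (Nat.card (stabAct hK (θ : K → ℂ)) ^ 2 + (p - 1)) ≤ k * (w ^ 2 + (p - 1)) := by
    have hw0 : 0 < w := by
      rcases Nat.eq_zero_or_pos w with h | h
      · rw [h, zero_mul, zero_mul] at hcN
        exact absurd hcN Nat.card_pos.ne'
      · exact h
    calc ∑ θ ∈ A, (Nat.card (stabAct hK (θ : K → ℂ)) ^ 2 + (p - 1)) ≤ ∑ _θ ∈ A, (w ^ 2 + (p - 1)) := by
          refine Finset.sum_le_sum fun θ _ => Nat.add_le_add_right (Nat.pow_le_pow_left ?_ 2) _
          have h1 := card_stabAct_mul_card_orb hK hP θ.2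
          rw [hw] at h1
          exact Nat.le_of_dvd hw0 (h1 ▸ dvd_mul_right _ _)
      _ = A.card * (w ^ 2 + (p - 1)) := by rw [Finset.sum_const, smul_eq_mul]
      _ ≤ k * (w ^ 2 + (p - 1)) := Nat.mul_le_mul_right _ hAk
  obtain ⟨χ, hl, h0⟩ := exists_dz hK hP hZ hZK c hw A (fun θ hθ => mem_filter.2 ⟨mem_univ _, hθ⟩) F hF
    (lt_of_le_of_lt hsum hlt)
  refine ⟨χ, hl, ?_⟩
  obtain ⟨d, hd⟩ := exists_degree_eq (P : Subgroup G) (isIrr_isCharacter χ.2) fun x hx hx1 => h0 x (by
    rw [Blocks.CyclicOrtho.orderOf_eq P hP hx hx1])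
  rw [hP] at hd
  refine ⟨d, ?_⟩
  have h1 : ((charDegree (χ : G → ℂ) : ℕ) : ℂ) = ((p * d : ℕ) : ℂ) := by
    obtain ⟨n, hn⟩ := isCharacter_apply_one (isIrr_isCharacter χ.2)
    unfold charDegree
    rw [hn, Complex.natCast_re, Nat.floor_natCast, ← hn, hd]
    push_cast
    ring
  exact_mod_cast h1

end quot

end Cfsg.Agent.H849.RIM
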